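import Groth.Prelude.Def_LocRes
import Groth.Prelude.Def_W4bk4goldsch23FF

/-!
# Orders and residues of differentials through an expansion (helper667)
-/

set_option autoImplicit false

universe u v w

namespace K667.DiffOrd

open LaurentSeries HahnSeries WithZero LocRes

section Laurent

variable {F : Type*} [Field F]

theorem v_le_exp_iff (f : F⸨X⸩) (n : ℤ) :
    Valued.v f ≤ WithZero.exp n ↔ ∀ m : ℤ, m < -n → f.coeff m = 0 := by
  have h := LaurentSeries.valuation_le_iff_coeff_lt_eq_zero F (D := -n) (f := f)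
  rwa [neg_neg] at h

theorem v_eq_exp_iff (f : F⸨X⸩) (n : ℤ) :
    Valued.v f = WithZero.exp n ↔ (∀ m : ℤ, m < -n → f.coeff m = 0) ∧ f.coeff (-n) ≠ 0 := by
  constructor
  · intro h
    refine ⟨(v_le_exp_iff f n).1 h.le, fun h0 => ?_⟩
    have h1 : Valued.v f ≤ WithZero.exp (n - 1) := by
      rw [v_le_exp_iff]
      intro m hm
      rcases lt_or_eq_of_le (show m ≤ -n by omega) with h2 | h2
      · exact (v_le_exp_iff f n).1 h.le m h2
      · rw [h2, h0]
    rw [h] at h1
    have := WithZero.exp_le_exp.1 h1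
    omega
  · rintro ⟨h1, h2⟩
    refine le_antisymm ((v_le_exp_iff f n).2 h1) ?_
    by_contra h3
    push Not at h3
    have h4 : Valued.v f ≤ WithZero.exp (n - 1) := by
      by_cases hf : f = 0
      · simp [hf]
      · have h5 : Valued.v f ≠ 0 := (Valuation.ne_zero_iff _).2 hf
        have h6 := WithZero.exp_log h5
        rw [← h6] at h3 ⊢
        rw [WithZero.exp_lt_exp] at h3
        rw [WithZero.exp_le_exp]
        omega
    exact h2 ((v_le_exp_iff f _).1 h4 _ (by omega))

theorem v_single (n : ℤ) {a : F} (ha : a ≠ 0) :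
    Valued.v (HahnSeries.single n a : F⸨X⸩) = WithZero.exp (-n) := by
  rw [v_eq_exp_iff]
  refine ⟨fun m hm => ?_, ?_⟩
  · rw [HahnSeries.coeff_single_of_ne (by omega)]
  · rw [neg_neg, HahnSeries.coeff_single_same]; exact ha

theorem v_C {a : F} (ha : a ≠ 0) : Valued.v (HahnSeries.C a : F⸨X⸩) = 1 := by
  have := v_single (F := F) 0 ha
  simpa using this

theorem v_C_le (a : F) : Valued.v (HahnSeries.C a : F⸨X⸩) ≤ 1 := by
  by_cases ha : a = 0
  · simp [ha]
  · exact (v_C ha).le

theorem v_le_one_iff (f : F⸨X⸩) : Valued.v f ≤ 1 ↔ ∀ m : ℤ, m < 0 → f.coeff m = 0 := by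
  have := v_le_exp_iff f 0
  simpa using this

/-- Differentiation of a series of value `≤ 1`. -/
theorem v_D_le_one {f : F⸨X⸩} (h : Valued.v f ≤ 1) : Valued.v (LocRes.D F f) ≤ 1 := by
  rw [v_le_one_iff] at h ⊢
  intro m hm
  rw [LocRes.D_coeff]
  rcases lt_or_eq_of_le (show m + 1 ≤ 0 by omega) with h1 | h1
  · rw [h _ h1, smul_zero]
  · rw [h1, zero_smul]

theorem v_D_le {f : F⸨X⸩} {n : ℤ} (h : Valued.v f ≤ WithZero.exp n) :
    Valued.v (LocRes.D F f) ≤ WithZero.exp (n + 1) := by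
  rw [v_le_exp_iff] at h ⊢
  intro m hm
  rw [LocRes.D_coeff, h _ (by omega), smul_zero]

theorem v_D_eq {f : F⸨X⸩} {n : ℤ} (h : Valued.v f = WithZero.exp n) (hn : (n : F) ≠ 0) :
    Valued.v (LocRes.D F f) = WithZero.exp (n + 1) := by
  rw [v_eq_exp_iff] at h ⊢
  refine ⟨fun m hm => ?_, ?_⟩
  · rw [LocRes.D_coeff, h.1 _ (by omega), smul_zero]
  · rw [LocRes.D_coeff]
    rw [show -(n + 1) + 1 = -n by ring, zsmul_eq_mul]
    push_cast
    exact mul_ne_zero (neg_ne_zero.2 hn) h.2

theorem v_D_uniformizer {f : F⸨X⸩} (h : Valued.v f = WithZero.exp (-1)) :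
    Valued.v (LocRes.D F f) = 1 := by
  have := v_D_eq (n := -1) h (by simp)
  simpa using this

theorem D_C (a : F) : LocRes.D F (HahnSeries.C a) = 0 := by
  rw [LocRes.D_apply, LocRes.derivative_C]

/-- A value `≤ 1` that is a difference of two series agreeing in the constant term. -/
theorem v_sub_C_lt_one {f : F⸨X⸩} (h : Valued.v f ≤ 1) :
    Valued.v (f - HahnSeries.C (f.coeff 0)) ≤ WithZero.exp (-1) := by
  rw [v_le_one_iff] at h
  rw [v_le_exp_iff]
  intro m hm
  rw [HahnSeries.coeff_sub]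
  rcases lt_or_eq_of_le (show m ≤ 0 by omega) with h1 | h1
  · rw [h _ h1, HahnSeries.C_apply, HahnSeries.coeff_single_of_ne (by omega), sub_zero]
  · rw [h1, HahnSeries.C_apply, HahnSeries.coeff_single_same, sub_self]

theorem coeff_mul_low {f g : F⸨X⸩} {a b : ℤ} (hf : ∀ m : ℤ, m < a → f.coeff m = 0)
    (hg : ∀ m : ℤ, m < b → g.coeff m = 0) :
    (f * g).coeff (a + b) = f.coeff a * g.coeff b := by
  rw [HahnSeries.coeff_mul]
  by_cases h : (f.coeff a = 0 ∨ g.coeff b = 0)
  · rw [Finset.sum_eq_zero]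
    · rcases h with h | h <;> simp [h]
    · rintro ⟨i, j⟩ hij
      rw [Finset.mem_antidiagonal] at hij
      obtain ⟨h1, h2, h3⟩ := hij
      simp only [HahnSeries.mem_support] at h1 h2
      simp only at h3 ⊢
      rcases lt_trichotomy i a with h4 | h4 | h4
      · exact absurd (hf i h4) h1
      · have h5 : j = b := by omega
        subst h4; subst h5
        rcases h with h | h
        · exact absurd h h1
        · exact absurd h h2
      · exact absurd (hg j (by omega)) h2
  · push Not at h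
    rw [Finset.sum_eq_single (a, b)]
    · rintro ⟨i, j⟩ hij hne
      rw [Finset.mem_antidiagonal] at hij
      obtain ⟨h1, h2, h3⟩ := hij
      simp only [HahnSeries.mem_support] at h1 h2
      simp only at h3 ⊢
      rcases lt_trichotomy i a with h4 | h4 | h4
      · exact absurd (hf i h4) h1
      · exact absurd (Prod.ext h4 (by simp only; omega)) hne
      · exact absurd (hg j (by omega)) h2
    · intro hab
      exact absurd (Finset.mem_antidiagonal.2 ⟨h.1, h.2, rfl⟩) hab

end Laurent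

section Expansion

variable {k : Type u} {K : Type v} {F : Type w} [Field k] [Field K] [Field F]
  [Algebra k K] [Algebra k F]

/-- The value of a Kähler differential through an expansion: `u dv ↦ φ u * (φ v)'`. -/
noncomputable def ev (φ : K →ₐ[k] F⸨X⸩) : Ω[K⁄k] →+ F⸨X⸩ :=
  letI := φ.toRingHom.toAlgebra
  haveI : IsScalarTower k K F⸨X⸩ := isScalarTower_exp φ
  ((dExp φ).liftKaehlerDifferential).toAddMonoidHom

theorem ev_smul (φ : K →ₐ[k] F⸨X⸩) (a : K) (ω : Ω[K⁄k]) : ev φ (a • ω) = φ a * ev φ ω := by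
  let _i := φ.toRingHom.toAlgebra
  have _t : IsScalarTower k K F⸨X⸩ := isScalarTower_exp φ
  exact ((dExp φ).liftKaehlerDifferential).map_smul a ω

theorem ev_D (φ : K →ₐ[k] F⸨X⸩) (v : K) :
    ev φ (KaehlerDifferential.D k K v) = LocRes.D F (φ v) := by
  let _i := φ.toRingHom.toAlgebra
  have _t : IsScalarTower k K F⸨X⸩ := isScalarTower_exp φ
  exact (dExp φ).liftKaehlerDifferential_comp_D v

theorem ev_smul_D (φ : K →ₐ[k] F⸨X⸩) (u v : K) :
    ev φ (u • KaehlerDifferential.D k K v) = φ u * LocRes.D F (φ v) := by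
  rw [ev_smul, ev_D]

theorem vDiff_eq (φ : K →ₐ[k] F⸨X⸩) (u v : K) :
    LocRes.vDiff φ u v = Valued.v (ev φ (u • KaehlerDifferential.D k K v)) := by
  rw [ev_smul_D]; rfl

theorem resExp_eq (φ : K →ₐ[k] F⸨X⸩) (u v : K) :
    LocRes.resExp φ u v = (ev φ (u • KaehlerDifferential.D k K v)).coeff (-1) := by
  rw [ev_smul_D]; rfl

theorem vDiff_congr (φ : K →ₐ[k] F⸨X⸩) {u v u' v' : K}
    (h : u • KaehlerDifferential.D k K v = u' • KaehlerDifferential.D k K v') :
    LocRes.vDiff φ u v = LocRes.vDiff φ u' v' := by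
  rw [vDiff_eq, vDiff_eq, h]

theorem ordDiff_congr (φ : K →ₐ[k] F⸨X⸩) {u v u' v' : K}
    (h : u • KaehlerDifferential.D k K v = u' • KaehlerDifferential.D k K v') :
    LocRes.ordDiff φ u v = LocRes.ordDiff φ u' v' := by
  rw [LocRes.ordDiff, LocRes.ordDiff, vDiff_congr φ h]

theorem resExp_congr (φ : K →ₐ[k] F⸨X⸩) {u v u' v' : K}
    (h : u • KaehlerDifferential.D k K v = u' • KaehlerDifferential.D k K v') :
    LocRes.resExp φ u v = LocRes.resExp φ u' v' := by
  rw [resExp_eq, resExp_eq, h]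

theorem locRes_congr (φ : K →ₐ[k] F⸨X⸩) {u v u' v' : K}
    (h : u • KaehlerDifferential.D k K v = u' • KaehlerDifferential.D k K v') :
    LocRes.locRes φ u v = LocRes.locRes φ u' v' := by
  rw [LocRes.locRes, LocRes.locRes, resExp_congr φ h]

theorem vDiff_mul (φ : K →ₐ[k] F⸨X⸩) (a u v : K) :
    LocRes.vDiff φ (a * u) v = Valued.v (φ a) * LocRes.vDiff φ u v := by
  simp only [LocRes.vDiff, map_mul, mul_assoc]

theorem vDiff_eq_mul_one (φ : K →ₐ[k] F⸨X⸩) (u v : K) :
    LocRes.vDiff φ u v = Valued.v (φ u) * LocRes.vDiff φ 1 v := by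
  simp only [LocRes.vDiff, map_mul, map_one, one_mul]

variable {w : Valuation K (WithZero (Multiplicative ℤ))} {φ : K →ₐ[k] F⸨X⸩}

theorem ordDiff_mul (hφ : LocRes.IsExpansionAt w φ) {a u v : K} (ha : a ≠ 0)
    (h : LocRes.vDiff φ u v ≠ 0) :
    LocRes.ordDiff φ (a * u) v = -WithZero.log (w a) + LocRes.ordDiff φ u v := by
  have h1 : w a ≠ 0 := (Valuation.ne_zero_iff _).2 ha
  rw [LocRes.ordDiff, LocRes.ordDiff, vDiff_mul, hφ.1, WithZero.log_mul h1 h]
  ring

/-- Density: every Laurent series is approximated by expansions. -/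
theorem exists_approx (hφ : LocRes.IsExpansionAt w φ) (f : F⸨X⸩) (n : ℤ) :
    ∃ u : K, Valued.v (f - φ u) ≤ WithZero.exp (-n) := by
  obtain ⟨h1, h2, t, ht⟩ := hφ
  have htv : Valued.v (φ t) = WithZero.exp (-1) := by rw [h1, ht]
  -- powers of `t`
  have htp : ∀ m : ℤ, Valued.v (φ (t ^ m)) = WithZero.exp (-m) := by
    intro m
    rw [h1, map_zpow₀, ht, ← WithZero.exp_zsmul]
    congr 1; simp
  obtain ⟨N, hN⟩ : ∃ N : ℤ, Valued.v f ≤ WithZero.exp (-N) := by
    by_cases hf : f = 0
    · exact ⟨0, by simp [hf]⟩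
    · exact ⟨-WithZero.log (Valued.v f), by
        rw [neg_neg, WithZero.exp_log ((Valuation.ne_zero_iff _).2 hf)]⟩
  -- induction
  have key : ∀ j : ℕ, ∃ u : K, Valued.v (f - φ u) ≤ WithZero.exp (-(N + j)) := by
    intro j
    induction j with
    | zero => exact ⟨0, by simpa using hN⟩
    | succ j ih =>
      obtain ⟨u, hu⟩ := ih
      set m : ℤ := N + j with hm
      have h3 := (v_le_exp_iff (f - φ u) (-m)).1 hu
      have h4 := (v_eq_exp_iff (φ (t ^ m)) (-m)).1 (htp m)
      rw [neg_neg] at h3 h4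
      set c := (f - φ u).coeff m with hc
      set b := (φ (t ^ m)).coeff m with hb
      obtain ⟨a, ha1, ha2⟩ := h2 (c / b)
      refine ⟨u + a * t ^ m, ?_⟩
      rw [v_le_exp_iff]
      intro l hl
      have hl' : l < m + 1 := by push_cast at hl; omega
      have h5 : (f - φ (u + a * t ^ m)) = (f - φ u) - φ a * φ (t ^ m) := by
        rw [map_add, map_mul]; ring
      rw [h5, HahnSeries.coeff_sub]
      have ha3 : ∀ i : ℤ, i < 0 → (φ a).coeff i = 0 := (v_le_one_iff _).1 (by rw [h1]; exact ha1)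
      rcases lt_or_eq_of_le (show l ≤ m by omega) with h6 | h6
      · rw [h3 _ h6, zero_sub, neg_eq_zero]
        have h7 : Valued.v (φ a * φ (t ^ m)) ≤ WithZero.exp (-m) := by
          rw [map_mul, htp]
          calc Valued.v (φ a) * WithZero.exp (-m) ≤ 1 * WithZero.exp (-m) := by
                gcongr; rw [h1]; exact ha1
            _ = _ := one_mul _
        have := (v_le_exp_iff _ _).1 h7
        exact this l (by omega)
      · rw [h6]
        have h8 := coeff_mul_low (f := φ a) (g := φ (t ^ m)) (a := 0) (b := m) ha3 h4.1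
        rw [zero_add] at h8
        rw [h8, ha2, ← hb, ← hc, div_mul_cancel₀ _ h4.2, sub_self]
  obtain ⟨u, hu⟩ := key (n - N).toNat
  refine ⟨u, hu.trans ?_⟩
  rw [WithZero.exp_le_exp]
  omega

theorem exists_val_eq (hφ : LocRes.IsExpansionAt w φ) (n : ℤ) : ∃ t : K, w t = WithZero.exp n := by
  obtain ⟨-, -, t, ht⟩ := hφ
  refine ⟨t ^ (-n), ?_⟩
  rw [map_zpow₀, ht, ← WithZero.exp_zsmul]
  congr 1; simp

/-- There is an element of `K` with prescribed leading term. -/
theorem exists_leading (hφ : LocRes.IsExpansionAt w φ) (n : ℤ) (a : F) :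
    ∃ u : K, Valued.v (φ u) ≤ WithZero.exp (-n) ∧ (φ u).coeff n = a := by
  obtain ⟨u, hu⟩ := exists_approx hφ (HahnSeries.single n a) (n + 1)
  refine ⟨u, ?_, ?_⟩
  · have h1 : Valued.v (HahnSeries.single n a : F⸨X⸩) ≤ WithZero.exp (-n) := by
      by_cases ha : a = 0
      · simp [ha]
      · exact (v_single n ha).le
    have h2 : φ u = HahnSeries.single n a - (HahnSeries.single n a - φ u) := by ring
    rw [h2]
    refine (Valuation.map_sub _ _ _).trans (max_le h1 (hu.trans ?_))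
    rw [WithZero.exp_le_exp]; omega
  · have h3 := (v_le_exp_iff _ _).1 hu n (by omega)
    rw [HahnSeries.coeff_sub, HahnSeries.coeff_single_same, sub_eq_zero] at h3
    exact h3.symm

/-- A uniformizer has nonzero differential, of order zero. -/
theorem vDiff_uniformizer (hφ : LocRes.IsExpansionAt w φ) {t : K} (ht : w t = WithZero.exp (-1)) :
    LocRes.vDiff φ 1 t = 1 := by
  rw [LocRes.vDiff, map_one, one_mul]
  exact v_D_uniformizer (by rw [hφ.1, ht])

theorem ev_D_uniformizer (hφ : LocRes.IsExpansionAt w φ) {t : K} (ht : w t = WithZero.exp (-1)) :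
    Valued.v (ev φ (KaehlerDifferential.D k K t)) = 1 := by
  rw [ev_D]
  exact v_D_uniformizer (by rw [hφ.1, ht])

theorem D_uniformizer_ne_zero (hφ : LocRes.IsExpansionAt w φ) {t : K}
    (ht : w t = WithZero.exp (-1)) : KaehlerDifferential.D k K t ≠ 0 := by
  intro h
  have := ev_D_uniformizer hφ ht
  rw [h, map_zero, map_zero] at this
  exact zero_ne_one this

theorem D_ne_zero_of_vDiff_ne_zero {u v : K} (h : LocRes.vDiff φ u v ≠ 0) :
    u ≠ 0 ∧ KaehlerDifferential.D k K v ≠ 0 := by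
  rw [vDiff_eq] at h
  constructor
  · rintro rfl; simp at h
  · intro h1; rw [h1, smul_zero] at h; simp at h

/-- When `Ω` is one-dimensional, every differential is a multiple of `dt`. -/
theorem exists_eq_smul_D (h1 : Module.finrank K (Ω[K⁄k]) = 1) {t : K}
    (ht : KaehlerDifferential.D k K t ≠ 0) (ω : Ω[K⁄k]) :
    ∃ a : K, ω = a • KaehlerDifferential.D k K t := by
  obtain ⟨a, ha⟩ := (finrank_eq_one_iff_of_nonzero' _ ht).1 h1 ω
  exact ⟨a, ha.symm⟩

theorem ev_injective (h1 : Module.finrank K (Ω[K⁄k]) = 1) (hφ : LocRes.IsExpansionAt w φ) :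
    Function.Injective (ev φ) := by
  rw [injective_iff_map_eq_zero]
  intro ω hω
  obtain ⟨t, ht⟩ := hφ.2.2
  obtain ⟨a, rfl⟩ := exists_eq_smul_D h1 (D_uniformizer_ne_zero hφ ht) ω
  rw [ev_smul] at hω
  have h2 : ev φ (KaehlerDifferential.D k K t) ≠ 0 := by
    intro h
    have := ev_D_uniformizer hφ ht
    rw [h, map_zero] at this
    exact zero_ne_one this
  rcases mul_eq_zero.1 hω with h3 | h3
  · rw [(map_eq_zero φ).1 h3, zero_smul]
  · exact absurd h3 h2

theorem vDiff_ne_zero (h1 : Module.finrank K (Ω[K⁄k]) = 1) (hφ : LocRes.IsExpansionAt w φ)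
    {u v : K} (hu : u ≠ 0) (hv : KaehlerDifferential.D k K v ≠ 0) :
    LocRes.vDiff φ u v ≠ 0 := by
  rw [vDiff_eq, Valuation.ne_zero_iff]
  intro h
  have := ev_injective h1 hφ (h.trans (map_zero _).symm)
  rcases smul_eq_zero.1 this with h2 | h2
  · exact hu h2
  · exact hv h2

theorem vDiff_ne_zero_iff (h1 : Module.finrank K (Ω[K⁄k]) = 1) (hφ : LocRes.IsExpansionAt w φ)
    {u v : K} :
    LocRes.vDiff φ u v ≠ 0 ↔ u ≠ 0 ∧ KaehlerDifferential.D k K v ≠ 0 :=
  ⟨D_ne_zero_of_vDiff_ne_zero, fun h => vDiff_ne_zero h1 hφ h.1 h.2⟩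

end Expansion

end K667.DiffOrd
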