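import Groth.Agent.FunFld.K667.PlaceRes
import Groth.Agent.FunFld.K660.Compare
import Groth.Agent.S10970
import Groth.Agent.S10983

/-!
# The residue theorem for a function field of one variable, by Tate's method (helper667)
-/

set_option autoImplicit false

universe u v w

namespace K667.ResThm

open LinearMap Module K667.Ptr K667.TateRes K667.TatePi K667.PlaceRes FunFld

variable {k : Type u} {K : Type v} [Field k] [Field K] [Algebra k K]

/-- The elements of `K` without poles outside `S`. -/
def RS (S : Finset (Place k K)) : Submodule k K where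
  carrier := {x | ∀ Q ∉ S, Q.1 x ≤ 1}
  add_mem' {x y} hx hy Q hQ := (Q.1.map_add x y).trans (max_le (hx Q hQ) (hy Q hQ))
  zero_mem' Q _ := by simp
  smul_mem' c x hx Q hQ := by
    change Q.1 (c • x) ≤ _
    rw [Algebra.smul_def, map_mul]
    exact mul_le_one' (Q.2.1 c) (hx Q hQ)

theorem mem_RS {S : Finset (Place k K)} {x : K} : x ∈ RS S ↔ ∀ Q ∉ S, Q.1 x ≤ 1 := Iff.rfl

open scoped Classical in
/-- Extension by zero from the places of `S`. -/
noncomputable def ext0 (S : Finset (Place k K)) : (S → K) →ₗ[k] adele k K where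
  toFun a := ⟨fun P => if h : P ∈ S then a ⟨P, h⟩ else 0, by
    change ∀ᶠ P : Place k K in Filter.cofinite, _
    rw [Filter.eventually_cofinite]
    refine S.finite_toSet.subset fun P hP => ?_
    by_contra hPS
    have hPS' : P ∉ S := hPS
    apply hP
    simp [hPS']⟩
  map_add' a b := by
    ext P
    by_cases h : P ∈ S <;> simp [h]
  map_smul' c a := by
    ext P
    by_cases h : P ∈ S <;> simp [h]

open scoped Classical in
theorem ext0_mem {S : Finset (Place k K)} (a : S → K) {P : Place k K} (h : P ∈ S) :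
    (ext0 S a : Place k K → K) P = a ⟨P, h⟩ := by
  change (if h : P ∈ S then a ⟨P, h⟩ else 0) = _
  rw [dif_pos h]

open scoped Classical in
theorem ext0_not_mem {S : Finset (Place k K)} (a : S → K) {P : Place k K} (h : P ∉ S) :
    (ext0 S a : Place k K → K) P = 0 := by
  change (if h : P ∈ S then a ⟨P, h⟩ else 0) = _
  rw [dif_neg h]

/-- The diagonal. -/
def dg (S : Finset (Place k K)) : RS S →ₗ[k] (S → K) := LinearMap.pi fun _ => (RS S).subtype

@[simp] theorem dg_apply {S : Finset (Place k K)} (x : RS S) (P : S) : dg S x P = (x : K) := rfl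

theorem prec_cover (hK : IsFunctionField k K) (S : Finset (Place k K)) :
    Prec ⊤ (piS (fun P : S => oS P.1 0) ⊔ LinearMap.range (dg S)) := by
  have hfin := (Groth.Agent.S10983.result k K hK 0).1
  let q : (S → K) →ₗ[k] (adele k K ⧸ ADK (0 : Divisor k K)) := (ADK (0 : Divisor k K)).mkQ ∘ₗ ext0 S
  obtain ⟨E, hE⟩ := Submodule.exists_isCompl (LinearMap.ker q)
  have hEfin : FiniteDimensional k E := by
    refine Module.Finite.of_injective (q ∘ₗ E.subtype) ?_
    rw [← LinearMap.ker_eq_bot, eq_bot_iff]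
    intro x hx
    have h1 : (x : S → K) ∈ LinearMap.ker q ⊓ E := ⟨hx, x.2⟩
    rw [hE.inf_eq_bot, Submodule.mem_bot] at h1
    rw [Submodule.mem_bot]
    exact Subtype.ext h1
  refine ⟨E, hEfin, ?_⟩
  rw [← hE.sup_eq_top]
  refine sup_le_sup_right ?_ E
  intro a ha
  have h1 : ext0 S a ∈ ADK (0 : Divisor k K) := by
    have : (ADK (0 : Divisor k K)).mkQ (ext0 S a) = 0 := ha
    simpa using this
  have h2 : (ext0 S a : Place k K → K) ∈ AD (0 : Divisor k K) ⊔ LinearMap.range (diag k K) := h1
  obtain ⟨b, hb, _, ⟨x, rfl⟩, hbx⟩ := Submodule.mem_sup.1 h2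
  have hb' : ∀ P : Place k K, P.1 (b P) ≤ 1 := fun P => by
    have := hb P
    simpa using this
  have hbx' : ∀ P : Place k K, b P + x = (ext0 S a : Place k K → K) P := fun P => congrFun hbx P
  have hx : x ∈ RS S := by
    intro Q hQ
    have h3 := hbx' Q
    rw [ext0_not_mem a hQ] at h3
    have h4 : x = -b Q := by linear_combination h3
    rw [h4, Valuation.map_neg]
    exact hb' Q
  refine Submodule.mem_sup.2 ⟨fun P => b P.1, ?_, dg S ⟨x, hx⟩, ⟨_, rfl⟩, ?_⟩
  · rw [mem_piS]
    intro P
    rw [mem_oS_zero]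
    exact hb' P.1
  · ext P
    have h3 := hbx' P.1
    rw [ext0_mem a P.2] at h3
    exact h3

theorem mul_mem_RS {S : Finset (Place k K)} {x y : K} (hx : x ∈ RS S) (hy : y ∈ RS S) :
    x * y ∈ RS S := by
  intro Q hQ
  rw [map_mul]
  exact mul_le_one' (hx Q hQ) (hy Q hQ)

/-- Multiplication by `u ∈ RS S` on `RS S`. -/
def mulRS (S : Finset (Place k K)) (u : K) (hu : u ∈ RS S) : RS S →ₗ[k] RS S :=
  (LinearMap.mulLeft k u).restrict fun _ hx => mul_mem_RS hu hx

theorem mulRS_comm (S : Finset (Place k K)) {u v : K} (hu : u ∈ RS S) (hv : v ∈ RS S) :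
    mulRS S u hu ∘ₗ mulRS S v hv = mulRS S v hv ∘ₗ mulRS S u hu := by
  ext x
  change u * (v * (x : K)) = v * (u * (x : K))
  ring

theorem finite_comap (hK : IsFunctionField k K) (S : Finset (Place k K)) :
    FiniteDimensional k ((piS fun P : S => oS P.1 0).comap (dg S)) := by
  have h3 := K660.Compare.finite_L hK (0 : Divisor k K)
  let e : ((piS fun P : S => oS P.1 0).comap (dg S)) →ₗ[k] L (0 : Divisor k K) :=
    ((RS S).subtype ∘ₗ ((piS fun P : S => oS P.1 0).comap (dg S)).subtype).codRestrict _ (by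
      intro x Q
      change Q.1 ((x : RS S) : K) ≤ _
      have h4 : WithZero.exp ((0 : Divisor k K) Q) = 1 := by simp
      rw [h4]
      by_cases hQ : Q ∈ S
      · have h5 := mem_piS.1 x.2 ⟨Q, hQ⟩
        rw [mem_oS_zero] at h5
        exact h5
      · exact (x : RS S).2 Q hQ)
  refine Module.Finite.of_injective e ?_
  intro x y hxy
  exact Subtype.ext (Subtype.ext (congrArg (fun z : L (0 : Divisor k K) => (z : K)) hxy))

set_option maxHeartbeats 400000 in
/-- **Residue theorem**, Tate form. -/
theorem sum_pres (hK : IsFunctionField k K) (S : Finset (Place k K)) {u v : K}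
    (hu : u ∈ RS S) (hv : v ∈ RS S) : ∑ P ∈ S, pres P u v = 0 := by
  classical
  rcases S.eq_empty_or_nonempty with rfl | ⟨P₀, hP₀⟩
  · simp
  have hfr : ∀ P : Place k K, FiniteDimensional k (IsLocalRing.ResidueField P.O) :=
    fun P => K660.Compare.finite_residue hK P
  have h1 := tres_piMap (fun P : S => oS P.1 0) (fun _ => LinearMap.mulLeft k u)
    (fun _ => LinearMap.mulLeft k v) (fun _ => mulLeft_comm u v)
    (fun P => prec_mul P.1 u 0) (fun P => prec_mul P.1 v 0)
  have hpu : Prec ((piS fun P : S => oS P.1 0).map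
      (TatePi.piMap fun _ : S => LinearMap.mulLeft k u)) (piS fun P : S => oS P.1 0) :=
    prec_piMap fun P => prec_mul P.1 u 0
  have hpv : Prec ((piS fun P : S => oS P.1 0).map
      (TatePi.piMap fun _ : S => LinearMap.mulLeft k v)) (piS fun P : S => oS P.1 0) :=
    prec_piMap fun P => prec_mul P.1 v 0
  have hcomm : (TatePi.piMap fun _ : S => LinearMap.mulLeft k u) ∘ₗ
      (TatePi.piMap fun _ : S => LinearMap.mulLeft k v) =
      (TatePi.piMap fun _ : S => LinearMap.mulLeft k v) ∘ₗ
      (TatePi.piMap fun _ : S => LinearMap.mulLeft k u) := by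
    refine LinearMap.ext fun x => funext fun P => ?_
    change u * (v * x P) = v * (u * x P)
    ring
  have hj : Function.Injective (dg S) := fun x y hxy =>
    Subtype.ext (congrFun hxy ⟨P₀, hP₀⟩)
  have hfu : ∀ x, dg S (mulRS S u hu x) = (TatePi.piMap fun _ : S => LinearMap.mulLeft k u) (dg S x) :=
    fun x => rfl
  have hfv : ∀ x, dg S (mulRS S v hv x) = (TatePi.piMap fun _ : S => LinearMap.mulLeft k v) (dg S x) :=
    fun x => rfl
  have h2 := tres_of_injective (dg S) hj (prec_cover hK S) hpu hpv hcomm hfu hfv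
  have h4 := tres_eq_zero_of_finite (finite_comap hK S) (mulRS_comm S hu hv)
  rw [h4, h1] at h2
  rw [← Finset.sum_coe_sort S (fun P => pres P u v)]
  exact h2

theorem finite_pole (hK : IsFunctionField k K) (x : K) :
    {P : Place k K | 1 < P.1 x}.Finite := by
  refine (Groth.Agent.S10970.result k K hK x).subset fun P hP => ?_
  rw [Function.mem_support]
  intro h0
  have hP' : 1 < P.1 x := hP
  have h1 : P.1 x ≠ 0 := (zero_lt_one.trans hP').ne'
  have h2 : P.1 x = WithZero.exp (- P.ord x) := K661.Place.val_eq_exp P ((Valuation.ne_zero_iff _).1 h1)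
  rw [h0] at h2
  simp [h2] at hP'

/-- **Residue theorem** (statement S12579). -/
theorem residue_theorem (hK : IsFunctionField k K)
    (F : Place k K → Type w) [∀ P, Field (F P)] [∀ P, Algebra k (F P)] [∀ P, FiniteDimensional k (F P)]
    (φ : ∀ P, K →ₐ[k] LaurentSeries (F P)) (hφ : ∀ P, LocRes.IsExpansionAt P.1 (φ P))
    (u v : K) :
    (Function.support fun P => LocRes.locRes (φ P) u v).Finite ∧
      ∑ᶠ P, LocRes.locRes (φ P) u v = 0 := by
  classical
  have hfr : ∀ P : Place k K, FiniteDimensional k (IsLocalRing.ResidueField P.O) :=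
    fun P => K660.Compare.finite_residue hK P
  let S : Finset (Place k K) := (finite_pole hK u).toFinset ∪ (finite_pole hK v).toFinset
  have hS : ∀ P ∉ S, P.1 u ≤ 1 ∧ P.1 v ≤ 1 := by
    intro P hP
    simp only [S, Finset.mem_union, Set.Finite.mem_toFinset, Set.mem_ofPred_eq, not_or, not_lt] at hP
    exact hP
  have hsupp : (Function.support fun P => LocRes.locRes (φ P) u v) ⊆ (S : Set (Place k K)) := by
    intro P hP
    by_contra hPS
    have h1 := hS P (by simpa using hPS)
    apply hP
    change LocRes.locRes (φ P) u v = 0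
    rw [← pres_eq_locRes P (φ P) (hφ P), pres_eq_zero h1.1 h1.2]
  refine ⟨S.finite_toSet.subset hsupp, ?_⟩
  rw [finsum_eq_sum_of_support_subset _ hsupp, ← sum_pres hK S (u := u) (v := v)
    (fun Q hQ => (hS Q hQ).1) (fun Q hQ => (hS Q hQ).2)]
  exact Finset.sum_congr rfl fun P _ => (pres_eq_locRes P (φ P) (hφ P) u v).symm

end K667.ResThm
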