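import Groth.Agent.FunFld.K667.DiffOrd
import Mathlib.RingTheory.Unramified.Field
import Mathlib.FieldTheory.Separable

/-!
# The coefficient field of an expansion is the residue field; separability (helper667)
-/

set_option autoImplicit false

universe u v w

namespace K667.ResField

open LaurentSeries HahnSeries WithZero LocRes K667.DiffOrd

section CoeffDer

variable {k : Type u} {F : Type w} [Field k] [Field F] [Algebra k F]

/-- Apply a derivation of the coefficient field coefficientwise. -/
noncomputable def cder (δ : Derivation k F F) (f : F⸨X⸩) : F⸨X⸩ :=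
  HahnSeries.map f δ.toLinearMap.toAddMonoidHom

@[simp] theorem cder_coeff (δ : Derivation k F F) (f : F⸨X⸩) (n : ℤ) :
    (cder δ f).coeff n = δ (f.coeff n) := rfl

theorem cder_add (δ : Derivation k F F) (f g : F⸨X⸩) : cder δ (f + g) = cder δ f + cder δ g := by
  ext n; simp

theorem cder_support (δ : Derivation k F F) (f : F⸨X⸩) : (cder δ f).support ⊆ f.support := by
  intro n hn
  rw [HahnSeries.mem_support] at hn ⊢
  intro h; apply hn; rw [cder_coeff, h, map_zero]

theorem cder_mul (δ : Derivation k F F) (f g : F⸨X⸩) :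
    cder δ (f * g) = f * cder δ g + g * cder δ f := by
  ext n
  rw [cder_coeff, HahnSeries.coeff_add, HahnSeries.coeff_mul, map_sum, mul_comm g,
    HahnSeries.coeff_mul_right' g.isPWO_support (cder_support δ g),
    HahnSeries.coeff_mul_left' f.isPWO_support (cder_support δ f), ← Finset.sum_add_distrib]
  refine Finset.sum_congr rfl fun ij _ => ?_
  rw [Derivation.leibniz, cder_coeff, cder_coeff, smul_eq_mul, smul_eq_mul]
  ring

theorem v_cder_le (δ : Derivation k F F) {f : F⸨X⸩} {n : ℤ} (h : Valued.v f ≤ WithZero.exp n) :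
    Valued.v (cder δ f) ≤ WithZero.exp n := by
  rw [v_le_exp_iff] at h ⊢
  intro m hm
  rw [cder_coeff, h m hm, map_zero]

end CoeffDer

section

variable {k : Type u} {K : Type v} {F : Type w} [Field k] [Field K] [Field F]
  [Algebra k K] [Algebra k F]

theorem cder_algebraMap (δ : Derivation k F F) (φ : K →ₐ[k] F⸨X⸩) (c : k) :
    cder δ (φ (algebraMap k K c)) = 0 := by
  rw [LocRes.map_algebraMap]
  ext n
  rw [cder_coeff, HahnSeries.C_apply]
  by_cases hn : n = 0
  · subst hn; rw [HahnSeries.coeff_single_same, Derivation.map_algebraMap]; simp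
  · rw [HahnSeries.coeff_single_of_ne hn, map_zero]; simp

/-- The derivation `K → F((X))` obtained from a derivation of the coefficient field. -/
noncomputable def cdExp (δ : Derivation k F F) (φ : K →ₐ[k] F⸨X⸩) :
    letI := φ.toRingHom.toAlgebra
    Derivation k K F⸨X⸩ :=
  letI := φ.toRingHom.toAlgebra
  { toFun := fun a => cder δ (φ a)
    map_add' := fun a b => show cder δ (φ (a + b)) = cder δ (φ a) + cder δ (φ b) by
      rw [map_add, cder_add]
    map_smul' := fun c a => show cder δ (φ (c • a)) = c • cder δ (φ a) by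
      rw [Algebra.smul_def, map_mul, cder_mul, cder_algebraMap, mul_zero, add_zero,
        LocRes.map_algebraMap, HahnSeries.C_mul_eq_smul, algebraMap_smul]
    map_one_eq_zero' := show cder δ (φ 1) = 0 by
      have := cder_algebraMap δ φ (1 : k)
      rwa [map_one] at this
    leibniz' := fun a b => show cder δ (φ (a * b)) = φ a * cder δ (φ b) + φ b * cder δ (φ a) by
      rw [map_mul, cder_mul] }

variable {w : Valuation K (WithZero (Multiplicative ℤ))} {φ : K →ₐ[k] F⸨X⸩}

/-- When `Ω_{K/k}` is one-dimensional, the coefficient field of an expansion has no `k`-derivations. -/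
theorem derivation_eq_zero (h1 : Module.finrank K (Ω[K⁄k]) = 1) (hφ : LocRes.IsExpansionAt w φ)
    (δ : Derivation k F F) : δ = 0 := by
  let _i := φ.toRingHom.toAlgebra
  have _t : IsScalarTower k K F⸨X⸩ := isScalarTower_exp φ
  obtain ⟨t, ht⟩ := hφ.2.2
  have hD := D_uniformizer_ne_zero hφ ht
  -- `cder (φ u) = c * D (φ u)` with `c = cder (φ t) / D (φ t)`
  have key : ∀ u : K, cder δ (φ u) * LocRes.D F (φ t) = cder δ (φ t) * LocRes.D F (φ u) := by
    intro u
    obtain ⟨a, ha⟩ := exists_eq_smul_D h1 hD (KaehlerDifferential.D k K u)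
    have e1 : cder δ (φ u) = φ a * cder δ (φ t) := by
      have h2 := (cdExp δ φ).liftKaehlerDifferential_comp_D u
      rw [ha, map_smul, (cdExp δ φ).liftKaehlerDifferential_comp_D] at h2
      exact h2.symm
    have e2 : LocRes.D F (φ u) = φ a * LocRes.D F (φ t) := by
      rw [← ev_D, ha, ev_smul, ev_D]
    rw [e1, e2]; ring
  have hvt : Valued.v (LocRes.D F (φ t)) = 1 := v_D_uniformizer (by rw [hφ.1, ht])
  -- cder (φ t) = 0
  have hc : cder δ (φ t) = 0 := by
    by_contra hne
    have hv0 : Valued.v (cder δ (φ t)) ≠ 0 := (Valuation.ne_zero_iff _).2 hne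
    set N : ℤ := WithZero.log (Valued.v (cder δ (φ t))) with hN
    have hvN : Valued.v (cder δ (φ t)) = WithZero.exp N := (WithZero.exp_log hv0).symm
    obtain ⟨u, hu⟩ := exists_approx hφ (HahnSeries.single 1 1) (max 2 (1 - N))
    have h3 : Valued.v (cder δ (φ u)) ≤ WithZero.exp (N - 1) := by
      have h4 : cder δ (φ u) = - cder δ (HahnSeries.single 1 1 - φ u) := by
        have h5 : cder δ (HahnSeries.single 1 (1 : F) : F⸨X⸩) = 0 := by
          ext n
          rw [cder_coeff]
          by_cases hn : n = 1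
          · subst hn; rw [HahnSeries.coeff_single_same]; simp
          · rw [HahnSeries.coeff_single_of_ne hn]; simp
        have h6 := cder_add δ (HahnSeries.single 1 1 - φ u) (φ u)
        rw [sub_add_cancel, h5] at h6
        rw [eq_neg_iff_add_eq_zero, add_comm]; exact h6.symm
      rw [h4, Valuation.map_neg]
      refine (v_cder_le δ hu).trans ?_
      rw [WithZero.exp_le_exp]
      have := le_max_right (2 : ℤ) (1 - N)
      omega
    have h7 : Valued.v (φ u) = WithZero.exp (-1) := by
      have h8 : φ u = HahnSeries.single 1 1 - (HahnSeries.single 1 1 - φ u) := by ring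
      have h9 : Valued.v (HahnSeries.single 1 1 - φ u) < Valued.v (HahnSeries.single 1 (1 : F) : F⸨X⸩) := by
        rw [v_single _ one_ne_zero]
        refine lt_of_le_of_lt hu ?_
        rw [WithZero.exp_lt_exp]
        have := le_max_left (2 : ℤ) (1 - N)
        omega
      rw [h8, Valuation.map_sub_eq_of_lt_left _ h9, v_single _ one_ne_zero]
    have h10 := key u
    have h11 := congrArg (Valued.v (R := F⸨X⸩)) h10
    rw [map_mul, map_mul, hvt, mul_one, v_D_uniformizer h7, mul_one, hvN] at h11
    rw [h11, WithZero.exp_le_exp] at h3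
    omega
  have hall : ∀ u : K, cder δ (φ u) = 0 := by
    intro u
    have h2 := key u
    rw [hc, zero_mul] at h2
    rcases mul_eq_zero.1 h2 with h3 | h3
    · exact h3
    · rw [h3, map_zero] at hvt; exact absurd hvt zero_ne_one
  ext a
  obtain ⟨u, -, hu⟩ := hφ.2.1 a
  have h2 := congrArg (fun f : F⸨X⸩ => f.coeff 0) (hall u)
  simp only [cder_coeff, hu] at h2
  simpa using h2

theorem isSeparable_coeff (h1 : Module.finrank K (Ω[K⁄k]) = 1) (hφ : LocRes.IsExpansionAt w φ)
    [FiniteDimensional k F] : Algebra.IsSeparable k F := by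
  have h2 : Subsingleton (Ω[F⁄k]) := by
    have h3 : ∀ g : Ω[F⁄k] →ₗ[F] F, g = 0 := by
      intro g
      have h4 := derivation_eq_zero h1 hφ ((KaehlerDifferential.linearMapEquivDerivation k F) g)
      exact (LinearEquiv.map_eq_zero_iff _).1 h4
    refine subsingleton_of_forall_eq 0 fun x => ?_
    exact (Module.forall_dual_apply_eq_zero_iff F x).1 fun g => by rw [h3 g]; rfl
  have : Algebra.FormallyUnramified k F :=
    (Algebra.formallyUnramified_iff k F).2 h2
  exact Algebra.FormallyUnramified.isSeparable k F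

end

section Res

variable {k : Type u} {K : Type v} {F : Type w} [Field k] [Field K] [Field F]
  [Algebra k K] [Algebra k F]

/-- The constant-term map `O_P → F`. -/
noncomputable def cst (P : FunFld.Place k K) (φ : K →ₐ[k] F⸨X⸩) (hφ : LocRes.IsExpansionAt P.1 φ) :
    P.O →ₐ[k] F where
  toFun u := (φ u).coeff 0
  map_one' := by simp
  map_mul' u v := by
    have h1 := (v_le_one_iff (φ u)).1 (by rw [hφ.1]; exact u.2)
    have h2 := (v_le_one_iff (φ v)).1 (by rw [hφ.1]; exact v.2)
    have := coeff_mul_low (a := 0) (b := 0) h1 h2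
    rw [zero_add] at this
    simpa using this
  map_zero' := by simp
  map_add' u v := by simp
  commutes' c := by
    have : ((algebraMap k P.O c : P.O) : K) = algebraMap k K c := rfl
    rw [this, LocRes.map_algebraMap]; simp

theorem cst_surjective (P : FunFld.Place k K) (φ : K →ₐ[k] F⸨X⸩) (hφ : LocRes.IsExpansionAt P.1 φ) :
    Function.Surjective (cst P φ hφ) := by
  intro a
  obtain ⟨f, hf, hfa⟩ := hφ.2.1 a
  exact ⟨⟨f, hf⟩, hfa⟩

theorem cst_eq_zero_iff (P : FunFld.Place k K) (φ : K →ₐ[k] F⸨X⸩)
    (hφ : LocRes.IsExpansionAt P.1 φ) (u : P.O) : cst P φ hφ u = 0 ↔ P.1 (u : K) < 1 := by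
  have h1 := (v_le_one_iff (φ u)).1 (by rw [hφ.1]; exact u.2)
  change (φ (u : K)).coeff 0 = 0 ↔ _
  rw [← hφ.1 u]
  constructor
  · intro h
    have : Valued.v (φ (u : K)) ≤ WithZero.exp (-1) := by
      rw [v_le_exp_iff]
      intro m hm
      rcases lt_or_eq_of_le (show m ≤ 0 by omega) with h2 | h2
      · exact h1 m h2
      · rw [h2, h]
    refine lt_of_le_of_lt this ?_
    rw [← WithZero.exp_zero, WithZero.exp_lt_exp]; omega
  · intro h
    by_contra h2
    have : Valued.v (φ (u : K)) = WithZero.exp 0 := by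
      rw [v_eq_exp_iff]
      simpa using ⟨h1, h2⟩
    rw [this, WithZero.exp_zero] at h
    exact lt_irrefl _ h

theorem ker_cst (P : FunFld.Place k K) (φ : K →ₐ[k] F⸨X⸩)
    (hφ : LocRes.IsExpansionAt P.1 φ) :
    RingHom.ker (cst P φ hφ) = IsLocalRing.maximalIdeal P.O := by
  ext u
  rw [RingHom.mem_ker, Valuation.mem_maximalIdeal_iff]
  exact cst_eq_zero_iff P φ hφ u

/-- The residue field of `P` is the coefficient field of any expansion. -/
noncomputable def resHom (P : FunFld.Place k K) (φ : K →ₐ[k] F⸨X⸩)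
    (hφ : LocRes.IsExpansionAt P.1 φ) : IsLocalRing.ResidueField P.O →ₐ[k] F :=
  { Ideal.Quotient.lift (IsLocalRing.maximalIdeal P.O) (cst P φ hφ : P.O →+* F)
      (fun a ha => by rw [← ker_cst P φ hφ] at ha; exact ha) with
    commutes' := fun c => by
      change cst P φ hφ (algebraMap k P.O c) = _
      exact (cst P φ hφ).commutes c }

theorem resHom_residue (P : FunFld.Place k K) (φ : K →ₐ[k] F⸨X⸩)
    (hφ : LocRes.IsExpansionAt P.1 φ) (u : P.O) :
    resHom P φ hφ (IsLocalRing.residue P.O u) = (φ (u : K)).coeff 0 := rfl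

theorem resHom_bijective (P : FunFld.Place k K) (φ : K →ₐ[k] F⸨X⸩)
    (hφ : LocRes.IsExpansionAt P.1 φ) : Function.Bijective (resHom P φ hφ) := by
  refine ⟨(resHom P φ hφ).toRingHom.injective, fun a => ?_⟩
  obtain ⟨u, hu⟩ := cst_surjective P φ hφ a
  exact ⟨IsLocalRing.residue P.O u, hu⟩

/-- The residue field of `P` is the coefficient field of any expansion. -/
noncomputable def resEquiv (P : FunFld.Place k K) (φ : K →ₐ[k] F⸨X⸩)
    (hφ : LocRes.IsExpansionAt P.1 φ) : IsLocalRing.ResidueField P.O ≃ₐ[k] F :=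
  AlgEquiv.ofBijective (resHom P φ hφ) (resHom_bijective P φ hφ)

theorem finrank_eq_deg (P : FunFld.Place k K) (φ : K →ₐ[k] F⸨X⸩)
    (hφ : LocRes.IsExpansionAt P.1 φ) : Module.finrank k F = P.deg :=
  ((resEquiv P φ hφ).toLinearEquiv.finrank_eq).symm

end Res

end K667.ResField
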