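import Groth.Agent.FunFld.K667.DiffOrd
import Mathlib.RingTheory.PowerSeries.Basic

/-!
# Hasse derivatives and Laurent expansions (helper667)
-/

set_option autoImplicit false

universe u v w

namespace K667.HasseExp

open LaurentSeries HahnSeries WithZero LocRes K667.DiffOrd

section Laurent

variable {F : Type*} [Field F]

/-- Finite sums of monomials are dense. -/
theorem exists_sum_single (f : F⸨X⸩) (n : ℤ) :
    ∃ s : Finset ℤ, Valued.v (f - ∑ a ∈ s, HahnSeries.single a (f.coeff a)) ≤ WithZero.exp (-n) := by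
  obtain ⟨N, hN⟩ : ∃ N : ℤ, Valued.v f ≤ WithZero.exp (-N) := by
    by_cases hf : f = 0
    · exact ⟨0, by simp [hf]⟩
    · exact ⟨-WithZero.log (Valued.v f), by
        rw [neg_neg, WithZero.exp_log ((Valuation.ne_zero_iff _).2 hf)]⟩
  refine ⟨Finset.Ico N n, ?_⟩
  rw [v_le_exp_iff] at hN ⊢
  intro m hm
  rw [neg_neg] at hN hm
  rw [HahnSeries.coeff_sub, HahnSeries.coeff_sum]
  by_cases h1 : m < N
  · rw [hN m h1, Finset.sum_eq_zero, sub_zero]
    intro a ha
    rw [Finset.mem_Ico] at ha
    exact HahnSeries.coeff_single_of_ne (by omega)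
  · rw [Finset.sum_eq_single m, HahnSeries.coeff_single_same, sub_self]
    · intro b _ hb
      exact HahnSeries.coeff_single_of_ne (Ne.symm hb)
    · intro h2
      exact absurd (Finset.mem_Ico.2 ⟨by omega, hm⟩) h2

/-- Two additive maps that are continuous and agree on monomials are equal. -/
theorem addHom_ext {L₁ L₂ : F⸨X⸩ →+ F⸨X⸩} (c : ℤ)
    (h₁ : ∀ (f : F⸨X⸩) (n : ℤ), Valued.v f ≤ WithZero.exp n → Valued.v (L₁ f) ≤ WithZero.exp (n + c))
    (h₂ : ∀ (f : F⸨X⸩) (n : ℤ), Valued.v f ≤ WithZero.exp n → Valued.v (L₂ f) ≤ WithZero.exp (n + c))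
    (h : ∀ (a : ℤ) (r : F), L₁ (HahnSeries.single a r) = L₂ (HahnSeries.single a r)) : L₁ = L₂ := by
  ext f m
  obtain ⟨s, hs⟩ := exists_sum_single f (m + c + 1)
  have h3 := (v_le_exp_iff _ _).1 (h₁ _ _ hs) m (by omega)
  have h4 := (v_le_exp_iff _ _).1 (h₂ _ _ hs) m (by omega)
  rw [map_sub, HahnSeries.coeff_sub, sub_eq_zero] at h3 h4
  rw [h3, h4, map_sum, map_sum]
  simp only [h]

theorem v_hasseDeriv_le (j : ℕ) {f : F⸨X⸩} {n : ℤ} (h : Valued.v f ≤ WithZero.exp n) :
    Valued.v (LaurentSeries.hasseDeriv F j f) ≤ WithZero.exp (n + j) := by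
  rw [v_le_exp_iff] at h ⊢
  intro m hm
  rw [LaurentSeries.hasseDeriv_coeff, h _ (by omega), smul_zero]

/-- The higher product rule for Hasse derivatives of Laurent series. -/
theorem hasseDeriv_mul (n : ℕ) (f g : F⸨X⸩) :
    LaurentSeries.hasseDeriv F n (f * g) =
      ∑ p ∈ Finset.HasAntidiagonal.antidiagonal n, LaurentSeries.hasseDeriv F p.1 f * LaurentSeries.hasseDeriv F p.2 g := by
  obtain ⟨N, hN⟩ : ∃ N : ℤ, Valued.v g ≤ WithZero.exp N := by
    by_cases hf : g = 0
    · exact ⟨0, by simp [hf]⟩
    · exact ⟨WithZero.log (Valued.v g), by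
        rw [WithZero.exp_log ((Valuation.ne_zero_iff _).2 hf)]⟩
  let L₁ : F⸨X⸩ →+ F⸨X⸩ :=
    (LaurentSeries.hasseDeriv F n).toAddMonoidHom.comp (AddMonoidHom.mulRight g)
  let L₂ : F⸨X⸩ →+ F⸨X⸩ := ∑ p ∈ Finset.HasAntidiagonal.antidiagonal n,
    (AddMonoidHom.mulRight (LaurentSeries.hasseDeriv F p.2 g)).comp
      (LaurentSeries.hasseDeriv F p.1).toAddMonoidHom
  have hL₁ : ∀ f, L₁ f = LaurentSeries.hasseDeriv F n (f * g) := fun _ => rfl
  have hL₂ : ∀ f, L₂ f = ∑ p ∈ Finset.HasAntidiagonal.antidiagonal n,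
      LaurentSeries.hasseDeriv F p.1 f * LaurentSeries.hasseDeriv F p.2 g := fun f => by
    simp [L₂]
  have key : L₁ = L₂ := by
    refine addHom_ext (N + n) ?_ ?_ ?_
    · intro f m hf
      rw [hL₁]
      refine (v_hasseDeriv_le n (n := m + N) ?_).trans (by rw [WithZero.exp_le_exp]; omega)
      rw [map_mul, WithZero.exp_add]
      exact mul_le_mul' hf hN
    · intro f m hf
      rw [hL₂]
      refine Valuation.map_sum_le _ fun p hp => ?_
      rw [Finset.HasAntidiagonal.mem_antidiagonal] at hp
      rw [map_mul]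
      refine (mul_le_mul' (v_hasseDeriv_le p.1 hf) (v_hasseDeriv_le p.2 hN)).trans ?_
      rw [← WithZero.exp_add, WithZero.exp_le_exp]
      omega
    · intro a r
      rw [hL₁, hL₂]
      ext m
      rw [LaurentSeries.hasseDeriv_coeff, HahnSeries.coeff_single_mul, HahnSeries.coeff_sum]
      have e : ∀ p ∈ Finset.HasAntidiagonal.antidiagonal n,
          (LaurentSeries.hasseDeriv F p.1 (HahnSeries.single a r) *
            LaurentSeries.hasseDeriv F p.2 g).coeff m =
          (Ring.choose a p.1 * Ring.choose (m + n - a) p.2 : ℤ) • (r * g.coeff (m + n - a)) := by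
        intro p hp
        rw [Finset.HasAntidiagonal.mem_antidiagonal] at hp
        rw [LaurentSeries.hasseDeriv_single, HahnSeries.coeff_single_mul,
          LaurentSeries.hasseDeriv_coeff]
        have e1 : m - (a - (p.1 : ℤ)) + (p.2 : ℤ) = m + n - a := by omega
        rw [e1, smul_mul_assoc, mul_smul_comm, smul_smul]
      rw [Finset.sum_congr rfl e, ← Finset.sum_smul, ← Ring.add_choose_eq n (Commute.all a (m + n - a))]
      congr 2
      ring
  rw [← hL₁, key, hL₂]

end Laurent

section Taylor

variable {k : Type u} {F : Type w} [Field k] [Field F] [Algebra k F]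

/-- The Taylor map `f ↦ ∑ D^{(n)} f T^n` of Laurent series. -/
noncomputable def taylor : F⸨X⸩ →+* PowerSeries F⸨X⸩ where
  toFun f := PowerSeries.mk fun n => LaurentSeries.hasseDeriv F n f
  map_one' := by
    ext n : 1
    rw [PowerSeries.coeff_mk, PowerSeries.coeff_one]
    by_cases hn : n = 0
    · subst hn; simp
    · rw [if_neg hn]
      ext m
      rw [LaurentSeries.hasseDeriv_coeff]
      by_cases h : m + n = 0
      · rw [h, Ring.choose_zero_pos ℤ (Nat.pos_of_ne_zero hn), zero_smul]; simp
      · rw [HahnSeries.coeff_one, if_neg h, smul_zero]; simp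
  map_mul' f g := by
    ext n : 1
    rw [PowerSeries.coeff_mk, PowerSeries.coeff_mul, hasseDeriv_mul]
    simp
  map_zero' := by
    ext n : 1
    rw [PowerSeries.coeff_mk, map_zero, map_zero]
  map_add' f g := by
    ext n : 1
    rw [PowerSeries.coeff_mk, map_add, map_add, PowerSeries.coeff_mk, PowerSeries.coeff_mk]

theorem coeff_taylor (n : ℕ) (f : F⸨X⸩) :
    PowerSeries.coeff n (taylor f) = LaurentSeries.hasseDeriv F n f := by
  change PowerSeries.coeff n (PowerSeries.mk fun n => LaurentSeries.hasseDeriv F n f) = _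
  rw [PowerSeries.coeff_mk]

end Taylor

section Unique

variable {k : Type u} {K : Type v} {L : Type w} [Field k] [Field K] [Field L]
  [Algebra k K]

/-- A `k`-derivation of `K` (into a field `L ⊇ K`, in unbundled form) is determined by its value at
`t` with `dt ≠ 0`, when `Ω` is one-dimensional. -/
theorem der_eq_zero (h1 : Module.finrank K (Ω[K⁄k]) = 1) {t : K}
    (hDt : KaehlerDifferential.D k K t ≠ 0) (φ : K →+* L) (d : K → L)
    (hadd : ∀ a b, d (a + b) = d a + d b)
    (hmul : ∀ a b, d (a * b) = φ a * d b + φ b * d a)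
    (hk : ∀ c : k, d (algebraMap k K c) = 0) (ht : d t = 0) (y : K) : d y = 0 := by
  let _i : Algebra K L := φ.toAlgebra
  let _j : Algebra k L := (φ.comp (algebraMap k K)).toAlgebra
  have _t : IsScalarTower k K L := IsScalarTower.of_algebraMap_eq fun _ => rfl
  let d' : Derivation k K L := Derivation.mk' (R := k)
    { toFun := d
      map_add' := hadd
      map_smul' := fun c a => by
        rw [Algebra.smul_def, hmul, hk, mul_zero, add_zero, RingHom.id_apply, Algebra.smul_def]
        rfl }
    (fun a b => by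
      change d (a * b) = a • d b + b • d a
      rw [hmul, Algebra.smul_def, Algebra.smul_def]; rfl)
  obtain ⟨a, ha⟩ := exists_eq_smul_D h1 hDt (KaehlerDifferential.D k K y)
  have h2 := d'.liftKaehlerDifferential_comp_D y
  rw [ha, map_smul, d'.liftKaehlerDifferential_comp_D] at h2
  have h3 : d' t = 0 := ht
  rw [h3, smul_zero] at h2
  exact h2.symm

/-- Uniqueness of homomorphisms into power series with given constant term. -/
theorem hom_ext (φ : K →+* L) {t : K}
    (hder : ∀ d : K → L, (∀ a b, d (a + b) = d a + d b) →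
      (∀ a b, d (a * b) = φ a * d b + φ b * d a) → (∀ c : k, d (algebraMap k K c) = 0) →
      d t = 0 → ∀ y, d y = 0)
    (g₁ g₂ : K →+* PowerSeries L)
    (hk : ∀ c : k, g₁ (algebraMap k K c) = g₂ (algebraMap k K c))
    (h₁ : ∀ y, PowerSeries.constantCoeff (g₁ y) = φ y)
    (h₂ : ∀ y, PowerSeries.constantCoeff (g₂ y) = φ y) (ht : g₁ t = g₂ t) :
    g₁ = g₂ := by
  have key : ∀ n : ℕ, ∀ y : K, PowerSeries.coeff n (g₁ y) = PowerSeries.coeff n (g₂ y) := by
    intro n
    induction n using Nat.strong_induction_on with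
    | _ n ih =>
      by_cases hn : n = 0
      · subst hn
        intro y
        rw [PowerSeries.coeff_zero_eq_constantCoeff_apply, PowerSeries.coeff_zero_eq_constantCoeff_apply,
          h₁, h₂]
      · -- the difference is a derivation
        have hprod : ∀ a b : K,
            PowerSeries.coeff n (g₁ (a * b)) - PowerSeries.coeff n (g₂ (a * b)) =
              φ a * (PowerSeries.coeff n (g₁ b) - PowerSeries.coeff n (g₂ b)) +
              φ b * (PowerSeries.coeff n (g₁ a) - PowerSeries.coeff n (g₂ a)) := by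
          intro a b
          rw [map_mul g₁, map_mul g₂, PowerSeries.coeff_mul, PowerSeries.coeff_mul, ← Finset.sum_sub_distrib]
          have hsub : ({(0, n), (n, 0)} : Finset (ℕ × ℕ)) ⊆ Finset.HasAntidiagonal.antidiagonal n := by
            intro p hp
            simp only [Finset.mem_insert, Finset.mem_singleton] at hp
            rcases hp with rfl | rfl <;> simp
          rw [← Finset.sum_subset hsub]
          · rw [Finset.sum_pair (by simp; omega)]
            simp only [PowerSeries.coeff_zero_eq_constantCoeff_apply, h₁, h₂]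
            ring
          · rintro ⟨i, j⟩ hp hp'
            rw [Finset.HasAntidiagonal.mem_antidiagonal] at hp
            simp only [Finset.mem_insert, Finset.mem_singleton, Prod.mk.injEq] at hp'
            simp only at hp ⊢
            rw [ih i (by omega) a, ih j (by omega) b, sub_self]
        intro y
        exact sub_eq_zero.1 (hder
          (fun y => PowerSeries.coeff n (g₁ y) - PowerSeries.coeff n (g₂ y))
          (fun a b => by simp only [map_add]; ring) hprod
          (fun c => by simp only [hk c, sub_self]) (by simp only [ht, sub_self]) y)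
  ext y n
  exact key n y

end Unique

end K667.HasseExp
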