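import Groth.Prelude.Def_W4bk4goldsch23FF
import Mathlib.RingTheory.Valuation.LocalSubring
import Mathlib.RingTheory.Valuation.Extension
import Mathlib.RingTheory.IntegralClosure.IsIntegralClosure.Basic

/-!
# Integral closure of a valuation ring in an algebraic extension (helper667)
-/

set_option autoImplicit false

universe u v w

namespace K667.IntCl

open Polynomial

/-- An element in all valuation rings containing the image of `A` is integral over `A`. -/
theorem isIntegral_of_forall_valuationSubring {A : Type*} [CommRing A] {L : Type*} [Field L]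
    [Algebra A L] (x : L)
    (h : ∀ V : ValuationSubring L, (∀ a, algebraMap A L a ∈ V) → x ∈ V) : IsIntegral A x := by
  have h1 := iInf_valuationSubring_superset (K := L) (s := Set.range (algebraMap A L))
  have h2 : x ∈ (integralClosure (Subring.closure (Set.range (algebraMap A L))) L).toSubring := by
    rw [← h1, Subring.mem_iInf]
    rintro ⟨V, hV⟩
    exact h V fun a => hV ⟨a, rfl⟩
  have h3 : IsIntegral (Subring.closure (Set.range (algebraMap A L))) x := h2
  have h4 : Subring.closure (Set.range (algebraMap A L)) = (algebraMap A L).range := by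
    rw [← RingHom.coe_range, Subring.closure_eq]
  rw [h4] at h3
  let _i : Algebra A (algebraMap A L).range := (algebraMap A L).rangeRestrict.toAlgebra
  have : IsScalarTower A (algebraMap A L).range L := IsScalarTower.of_algebraMap_eq fun _ => rfl
  have hs : Function.Surjective (algebraMap A (algebraMap A L).range) :=
    (algebraMap A L).rangeRestrict_surjective
  have : Algebra.IsIntegral A (algebraMap A L).range := Algebra.isIntegral_of_surjective hs
  exact isIntegral_trans x h3

theorem mem_of_isIntegral {A : Type*} [CommRing A] {L : Type*} [Field L]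
    [Algebra A L] {x : L} (hx : IsIntegral A x) (V : ValuationSubring L)
    (hV : ∀ a, algebraMap A L a ∈ V) : x ∈ V := by
  let f : A →+* V := (algebraMap A L).codRestrict V hV
  let _i : Algebra A V := f.toAlgebra
  have : IsScalarTower A V L := IsScalarTower.of_algebraMap_eq fun _ => rfl
  have h1 : IsIntegral V x := hx.tower_top
  obtain ⟨y, hy⟩ := IsIntegrallyClosed.isIntegral_iff.1 h1
  rw [← hy]; exact y.2

section

variable {K : Type*} {K' : Type*} [Field K] [Field K'] [Algebra K K']
  {Γ Γ' : Type*} [LinearOrderedCommGroupWithZero Γ] [LinearOrderedCommGroupWithZero Γ']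
  (v : Valuation K Γ) (w : Valuation K' Γ')
  [Algebra v.valuationSubring K'] [IsScalarTower v.valuationSubring K K']

/-- Every element of a valuation ring over `A` is a fraction of elements integral over `A` with
denominator a unit at the given valuation. -/
theorem exists_integral_mul_eq (hext : ∀ x : K, w (algebraMap K K' x) ≤ 1 ↔ v x ≤ 1)
    {z : K'} (hz : w z ≤ 1) (halg : IsAlgebraic K z) :
    ∃ b c : K', IsIntegral v.valuationSubring b ∧ IsIntegral v.valuationSubring c ∧
      w b = 1 ∧ z * b = c := by
  by_cases hz0 : z = 0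
  · subst hz0
    exact ⟨1, 0, isIntegral_one, isIntegral_zero, map_one w, zero_mul _⟩
  have hlt : ∀ x : K, v x < 1 → w (algebraMap K K' x) < 1 := by
    intro x hx
    by_contra hc
    push Not at hc
    by_cases hx0 : x = 0
    · subst hx0; simp at hc
    have h1 : w (algebraMap K K' x⁻¹) ≤ 1 := by
      rw [map_inv₀, map_inv₀]; exact inv_le_one_of_one_le₀ hc
    rw [hext, map_inv₀] at h1
    have h2 : v x ≠ 0 := (Valuation.ne_zero_iff _).2 hx0
    exact absurd hx (not_lt.2 ((inv_le_one₀ (zero_lt_iff.2 h2)).1 h1))
  have heq : ∀ x : K, v x = 1 → w (algebraMap K K' x) = 1 := by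
    intro x hx
    have hx0 : x ≠ 0 := by rintro rfl; simp at hx
    have h1 := (hext x).2 hx.le
    have h2 := (hext x⁻¹).2 (by rw [map_inv₀, hx, inv_one])
    rw [map_inv₀, map_inv₀] at h2
    have h3 : w (algebraMap K K' x) ≠ 0 := by
      rw [Valuation.ne_zero_iff]; exact (_root_.map_ne_zero _).2 hx0
    exact le_antisymm h1 ((inv_le_one₀ (zero_lt_iff.2 h3)).1 h2)
  obtain ⟨p, hp0, hp⟩ := halg
  -- normalise
  set n := p.natDegree with hn
  obtain ⟨i0, hi0, hmax⟩ := Finset.exists_max_image (Finset.range (n + 1)) (fun i => v (p.coeff i))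
    ⟨0, by simp⟩
  have hai0 : p.coeff i0 ≠ 0 := by
    intro h
    have h1 := hmax n (by simp)
    simp only [h, map_zero] at h1
    have h2 : v (p.coeff n) = 0 := le_antisymm h1 zero_le
    rw [map_eq_zero] at h2
    exact hp0 (Polynomial.leadingCoeff_eq_zero.1 h2)
  have hvi0 : v (p.coeff i0) ≠ 0 := (Valuation.ne_zero_iff _).2 hai0
  let a : ℕ → K := fun i => p.coeff i / p.coeff i0
  have ha1 : ∀ i ∈ Finset.range (n + 1), v (a i) ≤ 1 := by
    intro i hi
    change v (p.coeff i / p.coeff i0) ≤ 1
    rw [map_div₀]
    exact (div_le_one₀ (zero_lt_iff.2 hvi0)).2 (hmax i hi)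
  have ha2 : v (a i0) = 1 := by
    change v (p.coeff i0 / p.coeff i0) = 1
    rw [div_self hai0, map_one]
  have hrel : ∑ i ∈ Finset.range (n + 1), algebraMap K K' (a i) * z ^ i = 0 := by
    have h1 : ∑ i ∈ Finset.range (n + 1), algebraMap K K' (a i) * z ^ i =
        algebraMap K K' (p.coeff i0)⁻¹ * aeval z p := by
      rw [Polynomial.aeval_eq_sum_range, Finset.mul_sum]
      refine Finset.sum_congr rfl fun i _ => ?_
      change algebraMap K K' (p.coeff i / p.coeff i0) * z ^ i = _
      rw [div_eq_mul_inv, map_mul, Algebra.smul_def]; ring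
    rw [h1, hp, mul_zero]
  -- largest index with unit coefficient
  obtain ⟨j, hj, hjmax⟩ := Finset.exists_max_image
    ((Finset.range (n + 1)).filter fun i => v (a i) = 1) id ⟨i0, Finset.mem_filter.2 ⟨hi0, ha2⟩⟩
  rw [Finset.mem_filter] at hj
  have hgt : ∀ i ∈ Finset.range (n + 1), j < i → v (a i) < 1 := by
    intro i hi hji
    refine lt_of_le_of_ne (ha1 i hi) fun h => ?_
    have := hjmax i (Finset.mem_filter.2 ⟨hi, h⟩)
    simp only [id] at this
    omega
  set b : K' := ∑ i ∈ (Finset.range (n + 1)).filter (fun i => j ≤ i),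
    algebraMap K K' (a i) * z ^ (i - j) with hb
  have hsplit : z ^ j * b = -∑ i ∈ (Finset.range (n + 1)).filter (fun i => ¬ j ≤ i),
      algebraMap K K' (a i) * z ^ i := by
    rw [eq_neg_iff_add_eq_zero, ← hrel, ← Finset.sum_filter_add_sum_filter_not
      (Finset.range (n + 1)) (fun i => j ≤ i)]
    congr 1
    rw [hb, Finset.mul_sum]
    refine Finset.sum_congr rfl fun i hi => ?_
    rw [Finset.mem_filter] at hi
    rw [mul_left_comm, ← pow_add]
    congr 2
    omega
  have haA : ∀ V : ValuationSubring K', (∀ x, algebraMap v.valuationSubring K' x ∈ V) →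
      ∀ i ∈ Finset.range (n + 1), algebraMap K K' (a i) ∈ V := by
    intro V hV i hi
    have := hV ⟨a i, ha1 i hi⟩
    rwa [IsScalarTower.algebraMap_apply v.valuationSubring K K'] at this
  have key : ∀ V : ValuationSubring K', (∀ x, algebraMap v.valuationSubring K' x ∈ V) →
      b ∈ V ∧ z * b ∈ V := by
    intro V hV
    rcases V.mem_or_inv_mem z with h | h
    · have h1 : b ∈ V := by
        refine sum_mem fun i hi => ?_
        rw [Finset.mem_filter] at hi
        exact mul_mem (haA V hV i hi.1) (pow_mem h _)
      exact ⟨h1, mul_mem h h1⟩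
    · have h1 : z * b ∈ V := by
        rcases Nat.eq_zero_or_pos j with hj0 | hj0
        · have h2 : z ^ j * b = 0 := by
            rw [hsplit, Finset.filter_false_of_mem (fun i _ => by omega), Finset.sum_empty, neg_zero]
          rw [hj0, pow_zero, one_mul] at h2
          rw [h2, mul_zero]; exact zero_mem V
        · have h2 : z * b = (z⁻¹) ^ (j - 1) * (z ^ j * b) := by
            have h3 : z ^ j = z ^ (j - 1) * z := by rw [← pow_succ]; congr 1; omega
            rw [h3, inv_pow]
            field_simp
          rw [h2, hsplit, mul_neg, Finset.mul_sum]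
          refine neg_mem (sum_mem fun i hi => ?_)
          rw [Finset.mem_filter] at hi
          have h3 : (z⁻¹) ^ (j - 1) * (algebraMap K K' (a i) * z ^ i) =
              algebraMap K K' (a i) * (z⁻¹) ^ (j - 1 - i) := by
            have h4 : (z⁻¹) ^ (j - 1) = (z⁻¹) ^ (j - 1 - i) * (z⁻¹) ^ i := by
              rw [← pow_add]; congr 1; omega
            rw [h4, inv_pow z i]
            field_simp
          rw [h3]
          exact mul_mem (haA V hV i hi.1) (pow_mem h _)
      refine ⟨?_, h1⟩
      have h2 : b = z⁻¹ * (z * b) := by field_simp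
      rw [h2]; exact mul_mem h h1
  refine ⟨b, z * b, isIntegral_of_forall_valuationSubring _ fun V hV => (key V hV).1,
    isIntegral_of_forall_valuationSubring _ fun V hV => (key V hV).2, ?_, rfl⟩
  have hmem : j ∈ (Finset.range (n + 1)).filter (fun i => j ≤ i) :=
    Finset.mem_filter.2 ⟨hj.1, le_rfl⟩
  have hb2 : b = algebraMap K K' (a j) + ∑ i ∈ ((Finset.range (n + 1)).filter (fun i => j ≤ i)).erase j,
      algebraMap K K' (a i) * z ^ (i - j) := by
    rw [hb, ← Finset.add_sum_erase _ _ hmem]
    simp
  have h5 : w (∑ i ∈ ((Finset.range (n + 1)).filter (fun i => j ≤ i)).erase j,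
      algebraMap K K' (a i) * z ^ (i - j)) < 1 := by
    refine Valuation.map_sum_lt w one_ne_zero fun i hi => ?_
    rw [Finset.mem_erase, Finset.mem_filter] at hi
    rw [map_mul, map_pow]
    exact mul_lt_one_of_lt_of_le (hlt _ (hgt i hi.2.1 (by omega))) (pow_le_one' hz _)
  rw [hb2, Valuation.map_add_eq_of_lt_left, heq _ hj.2]
  rw [heq _ hj.2]; exact h5

end

end K667.IntCl
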