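import Groth.Agent.FunFld.K667.ResField
import Mathlib.RingTheory.Trace.Basic

/-!
# Nondegeneracy of the local residue (helper667)
-/

set_option autoImplicit false

universe u v w

namespace K667.Nondeg

open LaurentSeries HahnSeries WithZero LocRes K667.DiffOrd

variable {k : Type u} {K : Type v} {F : Type w} [Field k] [Field K] [Field F]
  [Algebra k K] [Algebra k F]
  {w : Valuation K (WithZero (Multiplicative ℤ))} {φ : K →ₐ[k] F⸨X⸩}

/-- Residue with prescribed value: if `vDiff φ 1 x = exp N` then every `a : F` is the residue of some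
`y dx` with `w y ≤ exp (1 - N)`. -/
theorem exists_resExp_eq (hφ : LocRes.IsExpansionAt w φ) {x : K} {N : ℤ}
    (hx : LocRes.vDiff φ 1 x = WithZero.exp N) (a : F) :
    ∃ y : K, w y ≤ WithZero.exp (1 - N) ∧ LocRes.resExp φ y x = a := by
  rw [LocRes.vDiff, map_one, one_mul] at hx
  have h1 := (v_eq_exp_iff _ _).1 hx
  set b := (LocRes.D F (φ x)).coeff (-N) with hb
  obtain ⟨y, hy1, hy2⟩ := exists_leading hφ (N - 1) (a / b)
  refine ⟨y, ?_, ?_⟩
  · rw [← hφ.1]; convert hy1 using 2; ring
  · have h2 := (v_le_exp_iff _ _).1 hy1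
    rw [neg_neg] at h2
    have h3 := coeff_mul_low (a := N - 1) (b := -N) h2 h1.1
    rw [show N - 1 + -N = -1 by ring, hy2, ← hb, div_mul_cancel₀ _ h1.2] at h3
    exact h3

theorem resExp_eq_zero_of_le {y x : K} (h : LocRes.vDiff φ y x ≤ 1) :
    LocRes.resExp φ y x = 0 := by
  rw [LocRes.vDiff, v_le_one_iff] at h
  exact h _ (by omega)

theorem locRes_eq_zero_of_le {y x : K} (h : LocRes.vDiff φ y x ≤ 1) :
    LocRes.locRes φ y x = 0 := by
  rw [LocRes.locRes, resExp_eq_zero_of_le h, map_zero]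

theorem vDiff_le_one_of_le (hφ : LocRes.IsExpansionAt w φ) {u v : K} (hu : w u ≤ 1) (hv : w v ≤ 1) :
    LocRes.vDiff φ u v ≤ 1 := by
  rw [LocRes.vDiff, map_mul]
  have h1 : Valued.v (φ u) ≤ 1 := by rw [hφ.1]; exact hu
  have h2 : Valued.v (LocRes.D F (φ v)) ≤ 1 := v_D_le_one (by rw [hφ.1]; exact hv)
  exact mul_le_one' h1 h2

/-- Trace form of the residue pairing: with separable coefficient field, `locRes φ y x` is nonzero for
some `y` of value `≤ exp (1 - N)`, where `vDiff φ 1 x = exp N`. -/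
theorem exists_locRes_ne_zero (hφ : LocRes.IsExpansionAt w φ) [FiniteDimensional k F]
    [Algebra.IsSeparable k F] {x : K} {N : ℤ} (hx : LocRes.vDiff φ 1 x = WithZero.exp N) :
    ∃ y : K, w y ≤ WithZero.exp (1 - N) ∧ LocRes.locRes φ y x ≠ 0 := by
  obtain ⟨a, ha⟩ : ∃ a : F, Algebra.trace k F a ≠ 0 := by
    by_contra h
    push Not at h
    exact Algebra.trace_ne_zero k F (LinearMap.ext h)
  obtain ⟨y, hy, hy'⟩ := exists_resExp_eq hφ hx a
  exact ⟨y, hy, by rw [LocRes.locRes, hy']; exact ha⟩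

/-- Duality: `y dx` is regular iff its product with every integral element has residue zero. -/
theorem vDiff_le_one_iff (hφ : LocRes.IsExpansionAt w φ) [FiniteDimensional k F]
    [Algebra.IsSeparable k F] {y x : K} :
    LocRes.vDiff φ y x ≤ 1 ↔ ∀ z : K, w z ≤ 1 → LocRes.locRes φ (z * y) x = 0 := by
  constructor
  · intro h z hz
    refine locRes_eq_zero_of_le ?_
    rw [vDiff_mul, hφ.1]
    exact mul_le_one' hz h
  · intro h
    by_contra hne
    push Not at hne
    have h0 : LocRes.vDiff φ y x ≠ 0 := by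
      intro h0; rw [h0] at hne; simp at hne
    have hy0 : y ≠ 0 := (D_ne_zero_of_vDiff_ne_zero h0).1
    have hwy : w y ≠ 0 := (Valuation.ne_zero_iff _).2 hy0
    have hx0 : LocRes.vDiff φ 1 x ≠ 0 := by
      intro h1; rw [vDiff_eq_mul_one, h1, mul_zero] at h0; exact h0 rfl
    set N := WithZero.log (LocRes.vDiff φ 1 x) with hN
    have hxN : LocRes.vDiff φ 1 x = WithZero.exp N := (WithZero.exp_log hx0).symm
    obtain ⟨y', hy1, hy2⟩ := exists_locRes_ne_zero hφ hxN
    apply hy2
    have h2 := h (y' / y) ?_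
    · rwa [div_mul_cancel₀ _ hy0] at h2
    · rw [map_div₀]
      rw [vDiff_eq_mul_one, hφ.1, hxN] at hne
      set M := WithZero.log (w y) with hM
      have hyM : w y = WithZero.exp M := (WithZero.exp_log hwy).symm
      rw [hyM] at hne ⊢
      rw [← WithZero.exp_add, ← WithZero.exp_zero, WithZero.exp_lt_exp] at hne
      rw [div_le_iff₀ (by simp), one_mul]
      refine hy1.trans ?_
      rw [WithZero.exp_le_exp]; omega

end K667.Nondeg
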