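import Groth.Agent.FunFld.K667.TateLaurent
import Groth.Agent.FunFld.K667.ResField
import Groth.Agent.FunFld.K661.Residue
import Mathlib.LinearAlgebra.Dimension.Constructions

/-!
# Tate's residue at a place of a field and its comparison with `LocRes.locRes` (helper667)
-/

set_option autoImplicit false

universe u v w

namespace K667.PlaceRes

open LaurentSeries HahnSeries LinearMap Module Groth.Agent.CurvesB.FinTrace K667.Ptr K667.TateRes
  K667.TatePi K667.DiffOrd K667.TateLaurent FunFld

variable {k : Type u} {K : Type v} [Field k] [Field K] [Algebra k K]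

/-- The fractional ideal `{x | P x ≤ exp n}` as a `k`-subspace. -/
def oS (P : Place k K) (n : ℤ) : Submodule k K where
  carrier := {x | P.1 x ≤ WithZero.exp n}
  add_mem' {x y} hx hy := (P.1.map_add x y).trans (max_le hx hy)
  zero_mem' := by simp
  smul_mem' c x hx := by
    change P.1 (c • x) ≤ _
    rw [Algebra.smul_def, map_mul]
    exact (mul_le_mul' (P.2.1 c) hx).trans_eq (one_mul _)

theorem mem_oS {P : Place k K} {n : ℤ} {x : K} : x ∈ oS P n ↔ P.1 x ≤ WithZero.exp n := Iff.rfl

theorem mem_oS_zero {P : Place k K} {x : K} : x ∈ oS P 0 ↔ P.1 x ≤ 1 := by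
  rw [mem_oS, WithZero.exp_zero]

theorem oS_mono (P : Place k K) {m n : ℤ} (h : m ≤ n) : oS P m ≤ oS P n := fun _ hx =>
  le_trans hx (WithZero.exp_le_exp.2 h)

/-- One step: `{P x ≤ exp (n+1)}` is contained in `{P x ≤ exp n}` up to finite dimension. -/
theorem prec_succ (P : Place k K) [hfin : FiniteDimensional k (IsLocalRing.ResidueField P.O)] (n : ℤ) :
    Prec (oS P (n + 1)) (oS P n) := by
  obtain ⟨t, ht⟩ := P.2.2 (WithZero.exp (n + 1))
  have ht0 : t ≠ 0 := by rintro rfl; simp at ht
  obtain ⟨s, hs⟩ := Module.finite_def.1 hfin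
  choose lift hlift using fun x : IsLocalRing.ResidueField P.O => IsLocalRing.residue_surjective x
  let E : Submodule k K := Submodule.span k ((fun x => t * (lift x : K)) '' (s : Set (IsLocalRing.ResidueField P.O)))
  have hE : FiniteDimensional k E := FiniteDimensional.span_of_finite k (s.finite_toSet.image _)
  refine ⟨E, hE, fun x hx => ?_⟩
  -- `x / t` is integral
  have h1 : P.1 (x / t) ≤ 1 := by
    rw [map_div₀, ht]
    exact (div_le_one₀ (by simp)).2 hx
  -- its residue is a combination of elements of `s`
  have key : ∀ y : IsLocalRing.ResidueField P.O, y ∈ Submodule.span k (s : Set (IsLocalRing.ResidueField P.O)) →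
      ∀ z : P.O, IsLocalRing.residue P.O z = y → t * (z : K) ∈ oS P n ⊔ E := by
    have hzero : ∀ z : P.O, IsLocalRing.residue P.O z = 0 → t * (z : K) ∈ oS P n := by
      intro z hz
      rw [IsLocalRing.residue_eq_zero_iff, Valuation.mem_maximalIdeal_iff] at hz
      rw [mem_oS, map_mul, ht]
      by_cases hz0 : (z : K) = 0
      · rw [hz0]; simp
      · have hz1 : P.1 (z : K) ≠ 0 := (Valuation.ne_zero_iff _).2 hz0
        obtain ⟨m, hm⟩ : ∃ m : ℤ, P.1 (z : K) = WithZero.exp m :=
          ⟨_, (WithZero.exp_log hz1).symm⟩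
        rw [hm] at hz ⊢
        have hm0 : m < 0 := by
          have h5 : WithZero.exp m < WithZero.exp (0 : ℤ) := by
            rw [WithZero.exp_zero]; exact hz
          exact WithZero.exp_lt_exp.1 h5
        rw [← WithZero.exp_add, WithZero.exp_le_exp]
        omega
    intro y hy
    induction hy using Submodule.span_induction with
    | mem y hy =>
      intro z hz
      have h2 : t * (z : K) = t * ((z - lift y : P.O) : K) + t * (lift y : K) := by
        push_cast; ring
      rw [h2]
      refine Submodule.add_mem_sup (hzero _ ?_) (Submodule.subset_span ⟨y, hy, rfl⟩)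
      rw [map_sub, hz, hlift, sub_self]
    | zero => intro z hz; exact Submodule.mem_sup_left (hzero z hz)
    | add y₁ y₂ _ _ h₁ h₂ =>
      intro z hz
      have h2 : t * (z : K) = t * ((z - lift y₁ - lift y₂ : P.O) : K) + t * (lift y₁ : K) +
          t * (lift y₂ : K) := by
        push_cast; ring
      rw [h2]
      refine Submodule.add_mem _ (Submodule.add_mem _ (Submodule.mem_sup_left (hzero _ ?_))
        (h₁ _ (hlift _))) (h₂ _ (hlift _))
      rw [map_sub, map_sub, hz, hlift, hlift]; ring
    | smul c y _ h =>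
      intro z hz
      have h2 : t * (z : K) = t * ((z - algebraMap k P.O c * lift y : P.O) : K) +
          c • (t * (lift y : K)) := by
        have h3 : ((algebraMap k P.O c : P.O) : K) = algebraMap k K c := rfl
        push_cast
        rw [h3, Algebra.smul_def]; ring
      rw [h2]
      refine Submodule.add_mem _ (Submodule.mem_sup_left (hzero _ ?_)) (Submodule.smul_mem _ c (h _ (hlift _)))
      rw [map_sub, map_mul, hz, hlift]
      exact sub_eq_zero.2 (K661.Residue.smul_eq P c y)
  have h3 := key (IsLocalRing.residue P.O ⟨x / t, h1⟩) (by rw [hs]; exact Submodule.mem_top)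
    ⟨x / t, h1⟩ rfl
  have h4 : t * (x / t) = x := by field_simp
  simpa [h4] using h3

theorem prec_oS (P : Place k K) [hfin : FiniteDimensional k (IsLocalRing.ResidueField P.O)] (m n : ℤ) :
    Prec (oS P m) (oS P n) := by
  have h : ∀ j : ℕ, Prec (oS P (n + j)) (oS P n) := by
    intro j
    induction j with
    | zero => simpa using Prec.refl _
    | succ j ih =>
      have := prec_succ P (n + j)
      push_cast
      rw [← add_assoc]
      exact this.trans ih
  exact (Prec.of_le (oS_mono P (show m ≤ n + ((m - n).toNat : ℤ) by omega))).trans (h _)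

/-- Multiplication by an element of `K` preserves the class of the lattices at `P`. -/
theorem prec_mul (P : Place k K) [hfin : FiniteDimensional k (IsLocalRing.ResidueField P.O)] (f : K)
    (n : ℤ) : Prec ((oS P n).map (LinearMap.mulLeft k f)) (oS P n) := by
  by_cases hf : f = 0
  · refine Prec.of_le ?_
    rintro _ ⟨x, -, rfl⟩
    simp [hf]
  · have h1 : P.1 f ≠ 0 := (Valuation.ne_zero_iff _).2 hf
    refine (Prec.of_le ?_).trans (prec_oS P (WithZero.log (P.1 f) + n) n)
    rintro _ ⟨x, hx, rfl⟩
    rw [mem_oS, LinearMap.mulLeft_apply, map_mul, WithZero.exp_add, WithZero.exp_log h1]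
    exact mul_le_mul' le_rfl hx

theorem mulLeft_comm (f g : K) : LinearMap.mulLeft k f ∘ₗ LinearMap.mulLeft k g =
    LinearMap.mulLeft k g ∘ₗ LinearMap.mulLeft k f := by
  ext x
  simp only [LinearMap.comp_apply, LinearMap.mulLeft_apply]; ring

/-- Tate's local residue at a place. -/
noncomputable def pres (P : Place k K) (f g : K) : k :=
  tres (oS P 0) (LinearMap.mulLeft k f) (LinearMap.mulLeft k g)

theorem pres_eq_zero {P : Place k K} {f g : K} (hf : P.1 f ≤ 1) (hg : P.1 g ≤ 1) :
    pres P f g = 0 := by
  refine tres_eq_zero_of_stable (fun x hx => ?_) (fun x hx => ?_)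
  · rw [mem_oS_zero] at hx ⊢
    rw [LinearMap.mulLeft_apply, map_mul]; exact mul_le_one' hf hx
  · rw [mem_oS_zero] at hx ⊢
    rw [LinearMap.mulLeft_apply, map_mul]; exact mul_le_one' hg hx

theorem pres_add_left (P : Place k K) [hfin : FiniteDimensional k (IsLocalRing.ResidueField P.O)]
    (f f' g : K) : pres P (f + f') g = pres P f g + pres P f' g := by
  rw [pres, pres, pres, ← tres_add_left (prec_mul P f 0) (prec_mul P f' 0) (prec_mul P g 0)]
  congr 1
  ext x; simp [add_mul]

theorem pres_sum_left (P : Place k K) [hfin : FiniteDimensional k (IsLocalRing.ResidueField P.O)]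
    {ι : Type*} (s : Finset ι) (f : ι → K) (g : K) :
    pres P (∑ i ∈ s, f i) g = ∑ i ∈ s, pres P (f i) g := by
  rw [pres]
  have : LinearMap.mulLeft k (∑ i ∈ s, f i) = ∑ i ∈ s, LinearMap.mulLeft k (f i) := by
    ext x; simp [Finset.sum_mul]
  rw [this, tres_sum_left s (fun i _ => prec_mul P (f i) 0) (prec_mul P g 0)]
  rfl

section Expansion

variable {F : Type w} [Field F] [Algebra k F]

/-- An expansion as a `k`-linear map. -/
noncomputable def expL (φ : K →ₐ[k] F⸨X⸩) : K →ₗ[k] F⸨X⸩ where
  toFun := φ
  map_add' := map_add φ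
  map_smul' c x := by
    rw [RingHom.id_apply, smul_eq_C_mul, Algebra.smul_def, map_mul, LocRes.map_algebraMap]

@[simp] theorem expL_apply (φ : K →ₐ[k] F⸨X⸩) (x : K) : expL φ x = φ x := rfl

/-- **Tate's local residue is the residue read through an expansion.** -/
theorem pres_eq_locRes [FiniteDimensional k F] (P : Place k K) (φ : K →ₐ[k] F⸨X⸩)
    (hφ : LocRes.IsExpansionAt P.1 φ) (f g : K) : pres P f g = LocRes.locRes φ f g := by
  have hj : Function.Injective (expL φ) := φ.toRingHom.injective
  have hcov : Prec ⊤ (lat k F 0 ⊔ LinearMap.range (expL φ)) := by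
    refine Prec.of_le ?_
    intro x _
    obtain ⟨u, hu⟩ := exists_approx hφ x 0
    have h1 : x = (x - φ u) + φ u := by ring
    rw [h1]
    refine Submodule.add_mem_sup ?_ ⟨u, rfl⟩
    rw [mem_lat_iff_v]; simpa using hu
  have h1 := tres_of_injective (expL φ) hj hcov (f := mulL k (φ f)) (g := mulL k (φ g))
    (f' := LinearMap.mulLeft k f) (g' := LinearMap.mulLeft k g) (prec_mulL _ 0) (prec_mulL _ 0)
    (mulL_comm _ _) (fun x => by simp) (fun x => by simp)
  have h2 : (lat k F 0).comap (expL φ) = oS P 0 := by
    ext x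
    rw [Submodule.mem_comap, mem_lat_iff_v, expL_apply, hφ.1, mem_oS]
  rw [h2, tres_laurent] at h1
  exact h1.symm

end Expansion

end K667.PlaceRes
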