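import Groth.Agent.CurvesB.FinTrace

/-!
# Tate's trace for operators of "type E₀" (helper667)

`ptr T` is the finite-rank trace of `T` restricted to its own range; it is the Tate trace of the
finite-potent operator `T` when `T ∘ T` has finite rank.
-/

set_option autoImplicit false

universe u v w

namespace K667.Ptr

open LinearMap Module Groth.Agent.CurvesB.FinTrace

variable {k : Type*} [Field k]
variable {V W X : Type*} [AddCommGroup V] [Module k V] [AddCommGroup W] [Module k W]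
  [AddCommGroup X] [Module k X]

/-- `A ≺ B`: `A` is contained in `B` up to a finite-dimensional space. -/
def Prec (A B : Submodule k V) : Prop :=
  ∃ E : Submodule k V, FiniteDimensional k E ∧ A ≤ B ⊔ E

theorem Prec.of_le {A B : Submodule k V} (h : A ≤ B) : Prec A B :=
  ⟨⊥, inferInstance, by simpa using h⟩

theorem Prec.refl (A : Submodule k V) : Prec A A := Prec.of_le le_rfl

theorem Prec.trans {A B C : Submodule k V} (h : Prec A B) (h' : Prec B C) : Prec A C := by
  obtain ⟨E, hE, h⟩ := h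
  obtain ⟨E', hE', h'⟩ := h'
  exact ⟨E' ⊔ E, inferInstance, h.trans (by rw [← sup_assoc]; exact sup_le_sup_right h' E)⟩

theorem Prec.sup {A A' B : Submodule k V} (h : Prec A B) (h' : Prec A' B) : Prec (A ⊔ A') B := by
  obtain ⟨E, hE, h⟩ := h
  obtain ⟨E', hE', h'⟩ := h'
  refine ⟨E ⊔ E', inferInstance, sup_le (h.trans ?_) (h'.trans ?_)⟩
  · exact sup_le_sup_left le_sup_left B
  · exact sup_le_sup_left le_sup_right B

theorem Prec.map {A B : Submodule k V} (h : Prec A B) (f : V →ₗ[k] W) :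
    Prec (A.map f) (B.map f) := by
  obtain ⟨E, hE, h⟩ := h
  refine ⟨E.map f, inferInstance, ?_⟩
  rw [← Submodule.map_sup]
  exact Submodule.map_mono h

theorem Prec.of_finite {A : Submodule k V} (h : FiniteDimensional k A) (B : Submodule k V) :
    Prec A B := ⟨A, h, le_sup_right⟩

/-- `T` has finite rank on `A`. -/
def FROn (T : V →ₗ[k] W) (A : Submodule k V) : Prop := FR (T ∘ₗ A.subtype)

theorem FROn.mono {T : V →ₗ[k] W} {A B : Submodule k V} (h : FROn T B) (hAB : A ≤ B) :
    FROn T A := by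
  have : T ∘ₗ A.subtype = (T ∘ₗ B.subtype) ∘ₗ Submodule.inclusion hAB := by ext; rfl
  rw [FROn, this]
  exact FR.comp_left h _

theorem FROn.finite {T : V →ₗ[k] W} {A : Submodule k V} (h : FROn T A) :
    FiniteDimensional k (A.map T) := by
  have h1 : FiniteDimensional k (LinearMap.range (T ∘ₗ A.subtype)) := h
  rwa [LinearMap.range_comp, Submodule.range_subtype] at h1

theorem FROn.of_finite {T : V →ₗ[k] W} {A : Submodule k V}
    (h : FiniteDimensional k (A.map T)) : FROn T A := by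
  have : FiniteDimensional k (LinearMap.range (T ∘ₗ A.subtype)) := by
    rwa [LinearMap.range_comp, Submodule.range_subtype]
  exact this

theorem FROn.of_forall_mem {T : V →ₗ[k] W} {A : Submodule k V} (E : Submodule k W)
    [FiniteDimensional k E] (h : ∀ x ∈ A, T x ∈ E) : FROn T A :=
  FR.of_forall_mem E fun x => h x x.2

theorem FROn.prec {T : V →ₗ[k] W} {A B : Submodule k V} (h : FROn T B) (hAB : Prec A B) :
    FROn T A := by
  obtain ⟨E, hE, hAB⟩ := hAB
  have h1 := h.finite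
  apply FROn.of_finite
  refine Submodule.finiteDimensional_of_le (S₂ := B.map T ⊔ E.map T) ?_
  rw [← Submodule.map_sup]
  exact Submodule.map_mono hAB

theorem FROn.add {S T : V →ₗ[k] W} {A : Submodule k V} (hS : FROn S A) (hT : FROn T A) :
    FROn (S + T) A := by
  rw [FROn, LinearMap.add_comp]; exact FR.add hS hT

theorem FROn.sub {S T : V →ₗ[k] W} {A : Submodule k V} (hS : FROn S A) (hT : FROn T A) :
    FROn (S - T) A := by
  rw [FROn, LinearMap.sub_comp]; exact FR.sub hS hT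

theorem FROn.neg {S : V →ₗ[k] W} {A : Submodule k V} (hS : FROn S A) : FROn (-S) A := by
  rw [FROn, LinearMap.neg_comp]; exact FR.neg hS

theorem FROn.comp_right {T : V →ₗ[k] W} {A : Submodule k V} (h : FROn T A) (S : W →ₗ[k] X) :
    FROn (S ∘ₗ T) A := by
  rw [FROn, LinearMap.comp_assoc]; exact FR.comp_right h S

/-- Precomposition: `T ∘ g` has finite rank on `A` if `T` has finite rank on `B ≽ g(A)`. -/
theorem FROn.comp_left {T : W →ₗ[k] X} {B : Submodule k W} (h : FROn T B) {g : V →ₗ[k] W}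
    {A : Submodule k V} (hg : Prec (A.map g) B) : FROn (T ∘ₗ g) A := by
  have h1 := (h.prec hg).finite
  apply FROn.of_finite
  rwa [Submodule.map_comp]

theorem FROn.of_FR {T : V →ₗ[k] W} (h : FR T) (A : Submodule k V) : FROn T A :=
  FR.comp_left h _

theorem FROn.sup {T : V →ₗ[k] W} {A B : Submodule k V} (h : FROn T A) (h' : FROn T B) :
    FROn T (A ⊔ B) := by
  have h1 := h.finite
  have h2 := h'.finite
  apply FROn.of_finite
  rw [Submodule.map_sup]
  infer_instance

/-- Operators of type `E₀` with respect to `A`: range almost in `A`, finite rank on `A`. -/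
def E0 (A : Submodule k V) (T : V →ₗ[k] V) : Prop := Prec (LinearMap.range T) A ∧ FROn T A

theorem E0.add {A : Submodule k V} {S T : V →ₗ[k] V} (hS : E0 A S) (hT : E0 A T) :
    E0 A (S + T) := by
  refine ⟨(Prec.of_le ?_).trans (hS.1.sup hT.1), hS.2.add hT.2⟩
  rintro _ ⟨x, rfl⟩
  exact Submodule.add_mem_sup ⟨x, rfl⟩ ⟨x, rfl⟩

theorem E0.neg {A : Submodule k V} {T : V →ₗ[k] V} (hT : E0 A T) : E0 A (-T) := by
  refine ⟨(Prec.of_le ?_).trans hT.1, hT.2.neg⟩
  rintro _ ⟨x, rfl⟩
  exact ⟨-x, by simp⟩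

theorem E0.sub {A : Submodule k V} {S T : V →ₗ[k] V} (hS : E0 A S) (hT : E0 A T) :
    E0 A (S - T) := by
  rw [sub_eq_add_neg]; exact hS.add hT.neg

theorem E0.zero (A : Submodule k V) : E0 A (0 : V →ₗ[k] V) :=
  ⟨Prec.of_le (by rw [LinearMap.range_zero]; exact bot_le), FROn.of_FR FR.zero A⟩

theorem E0.sum {ι : Type*} (s : Finset ι) {A : Submodule k V} {S : ι → V →ₗ[k] V}
    (h : ∀ i ∈ s, E0 A (S i)) : E0 A (∑ i ∈ s, S i) := by
  classical
  induction s using Finset.induction_on with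
  | empty => simpa using E0.zero A
  | insert a s ha ih =>
    rw [Finset.sum_insert ha]
    exact (h a (Finset.mem_insert_self a s)).add
      (ih fun i hi => h i (Finset.mem_insert_of_mem hi))

theorem E0.comp_right {A : Submodule k V} {T : V →ₗ[k] V} (hT : E0 A T) {g : V →ₗ[k] V}
    (hg : Prec (A.map g) A) : E0 A (g ∘ₗ T) := by
  refine ⟨?_, hT.2.comp_right g⟩
  rw [LinearMap.range_comp]
  exact (hT.1.map g).trans hg

theorem E0.comp_left {A : Submodule k V} {T : V →ₗ[k] V} (hT : E0 A T) {g : V →ₗ[k] V}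
    (hg : Prec (A.map g) A) : E0 A (T ∘ₗ g) := by
  refine ⟨(Prec.of_le ?_).trans hT.1, hT.2.comp_left hg⟩
  rintro _ ⟨x, rfl⟩
  exact ⟨g x, rfl⟩

theorem E0.of_FR {A : Submodule k V} {T : V →ₗ[k] V} (hT : FR T) : E0 A T :=
  ⟨Prec.of_finite hT A, FROn.of_FR hT A⟩

/-- The Tate trace. -/
noncomputable def ptr (T : V →ₗ[k] V) : k :=
  ftr (T.restrict (p := LinearMap.range T) (q := LinearMap.range T)
    (fun x _ => LinearMap.mem_range_self T x))

/-- The trace can be computed on any subspace containing the range and on which `T` has finite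
rank. -/
theorem ptr_eq (T : V →ₗ[k] V) (L : Submodule k V) (h : ∀ x, T x ∈ L) (hfr : FROn T L) :
    ptr T = ftr (T.restrict (p := L) (q := L) (fun x _ => h x)) := by
  have hle : LinearMap.range T ≤ L := by
    rintro _ ⟨x, rfl⟩
    exact h x
  let i : LinearMap.range T →ₗ[k] L := Submodule.inclusion hle
  let r : L →ₗ[k] LinearMap.range T :=
    (T.comp L.subtype).codRestrict (LinearMap.range T) (fun x => LinearMap.mem_range_self T _)
  have h1 : T.restrict (p := LinearMap.range T) (q := LinearMap.range T)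
      (fun x _ => LinearMap.mem_range_self T x) = r ∘ₗ i := by
    ext x
    rfl
  have h2 : T.restrict (p := L) (q := L) (fun x _ => h x) = i ∘ₗ r := by
    ext x
    rfl
  have hr : FR r := by
    refine FR.of_comp_injective (S := (LinearMap.range T).subtype) ?_
      (Submodule.injective_subtype _)
    exact hfr
  rw [ptr, h1, h2, ftr_comm hr]

theorem FR_restrict {T : V →ₗ[k] V} {L M : Submodule k V} (h : ∀ x ∈ L, T x ∈ M) (hfr : FROn T L) :
    FR (T.restrict h) := by
  refine FR.of_comp_injective (S := M.subtype) ?_ (Submodule.injective_subtype _)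
  exact hfr

theorem ptr_eq_ftr {T : V →ₗ[k] V} (hT : FR T) : ptr T = ftr T := by
  rw [ptr_eq T ⊤ (fun _ => trivial) (FROn.of_FR hT ⊤)]
  let e : (⊤ : Submodule k V) ≃ₗ[k] V := Submodule.topEquiv
  have h1 : T.restrict (p := ⊤) (q := ⊤) (fun x _ => trivial) =
      (e.symm : V →ₗ[k] (⊤ : Submodule k V)) ∘ₗ (T ∘ₗ (e : (⊤ : Submodule k V) →ₗ[k] V)) := by
    ext x; rfl
  rw [h1, ftr_comm (hT.comp_left _)]
  congr 1

theorem ptr_eq_trace [FiniteDimensional k V] (T : V →ₗ[k] V) : ptr T = LinearMap.trace k V T := by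
  rw [ptr_eq_ftr (FR.of_source T), ftr_eq_trace]

theorem ptr_zero : ptr (0 : V →ₗ[k] V) = 0 := by
  rw [ptr_eq_ftr FR.zero, ftr_zero]

theorem ptr_add {A : Submodule k V} {S T : V →ₗ[k] V} (hS : E0 A S) (hT : E0 A T) :
    ptr (S + T) = ptr S + ptr T := by
  let L := LinearMap.range S ⊔ LinearMap.range T
  have hSL : ∀ x, S x ∈ L := fun x => Submodule.mem_sup_left ⟨x, rfl⟩
  have hTL : ∀ x, T x ∈ L := fun x => Submodule.mem_sup_right ⟨x, rfl⟩
  have hL : Prec L A := hS.1.sup hT.1
  have h1 : FROn S L := hS.2.prec hL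
  have h2 : FROn T L := hT.2.prec hL
  rw [ptr_eq S L hSL h1, ptr_eq T L hTL h2, ptr_eq (S + T) L (fun x => L.add_mem (hSL x) (hTL x))
    (h1.add h2), ← ftr_add (FR_restrict _ h1) (FR_restrict _ h2)]
  congr 1

theorem ptr_neg {A : Submodule k V} {T : V →ₗ[k] V} (hT : E0 A T) : ptr (-T) = - ptr T := by
  have h := ptr_add hT hT.neg
  rw [add_neg_cancel, ptr_zero] at h
  exact (neg_eq_of_add_eq_zero_right h.symm).symm

theorem ptr_sub {A : Submodule k V} {S T : V →ₗ[k] V} (hS : E0 A S) (hT : E0 A T) :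
    ptr (S - T) = ptr S - ptr T := by
  rw [sub_eq_add_neg, ptr_add hS hT.neg, ptr_neg hT, sub_eq_add_neg]

theorem ptr_sum {ι : Type*} (s : Finset ι) {A : Submodule k V} {S : ι → V →ₗ[k] V}
    (h : ∀ i ∈ s, E0 A (S i)) : ptr (∑ i ∈ s, S i) = ∑ i ∈ s, ptr (S i) := by
  classical
  induction s using Finset.induction_on with
  | empty => simpa using ptr_zero
  | insert a s ha ih =>
    rw [Finset.sum_insert ha, Finset.sum_insert ha, ptr_add (h a (Finset.mem_insert_self a s))
      (E0.sum s fun i hi => h i (Finset.mem_insert_of_mem hi)),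
      ih fun i hi => h i (Finset.mem_insert_of_mem hi)]

/-- `Tr (S ∘ T) = Tr (T ∘ S)` when `S : W → V` has range in `L`, `T` maps `L` into `M` and `S` has
finite rank on `M`. -/
theorem ptr_comm (T : V →ₗ[k] W) (S : W →ₗ[k] V) (L : Submodule k V) (M : Submodule k W)
    (hS : ∀ w, S w ∈ L) (hT : ∀ x ∈ L, T x ∈ M) (hfr : FROn S M) :
    ptr (S ∘ₗ T) = ptr (T ∘ₗ S) := by
  have h1 : ∀ x, (S ∘ₗ T) x ∈ L := fun x => hS _
  have h2 : ∀ x, (T ∘ₗ S) x ∈ M := fun x => hT _ (hS _)
  have h3 : FROn (S ∘ₗ T) L := by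
    refine hfr.comp_left (Prec.of_le ?_)
    rintro _ ⟨x, hx, rfl⟩
    exact hT x hx
  have h4 : FROn (T ∘ₗ S) M := hfr.comp_right T
  rw [ptr_eq _ L h1 h3, ptr_eq _ M h2 h4]
  let T' : L →ₗ[k] M := T.restrict hT
  let S' : M →ₗ[k] L := S.restrict (fun x _ => hS x)
  have e1 : (S ∘ₗ T).restrict (p := L) (q := L) (fun x _ => h1 x) = S' ∘ₗ T' := by
    ext x; rfl
  have e2 : (T ∘ₗ S).restrict (p := M) (q := M) (fun x _ => h2 x) = T' ∘ₗ S' := by
    ext x; rfl
  have hS' : FR S' := by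
    refine FR.of_comp_injective (S := L.subtype) ?_ (Submodule.injective_subtype _)
    exact hfr
  rw [e1, e2, ftr_comm hS']

/-- Commutation inside one space for `S` of type `E₀` and `g` preserving the class of `A`. -/
theorem ptr_comm_E0 {A : Submodule k V} {S : V →ₗ[k] V} (hS : E0 A S) {g : V →ₗ[k] V}
    (hg : Prec (A.map g) A) : ptr (S ∘ₗ g) = ptr (g ∘ₗ S) := by
  refine ptr_comm g S (LinearMap.range S) ((LinearMap.range S).map g) (fun w => ⟨w, rfl⟩)
    (fun x hx => ⟨x, hx, rfl⟩) ?_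
  exact hS.2.prec ((hS.1.map g).trans hg)

/-- If the range of `T` lies in `W`, the trace may be computed on `W`. -/
theorem ptr_restrict {A : Submodule k V} {T : V →ₗ[k] V} (hT : E0 A T) (W : Submodule k V)
    (hW : ∀ x, T x ∈ W) :
    ptr T = ptr (T.restrict (p := W) (q := W) (fun x _ => hW x)) := by
  let T' : V →ₗ[k] W := T.codRestrict W hW
  have e1 : T = W.subtype ∘ₗ T' := by ext x; rfl
  have e2 : T.restrict (p := W) (q := W) (fun x _ => hW x) = T' ∘ₗ W.subtype := by ext x; rfl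
  rw [e2]
  conv_lhs => rw [e1]
  symm
  refine ptr_comm W.subtype T' (LinearMap.range T') (LinearMap.range T) (fun w => ⟨w, rfl⟩) ?_ ?_
  · rintro _ ⟨y, rfl⟩
    exact ⟨y, rfl⟩
  · refine FR.of_comp_injective (S := W.subtype) ?_ (Submodule.injective_subtype _)
    exact hT.2.prec hT.1

/-- Conjugation by a linear equivalence. -/
theorem ptr_conj (e : V ≃ₗ[k] W) {A : Submodule k V} {T : V →ₗ[k] V} (hT : E0 A T) :
    ptr ((e : V →ₗ[k] W) ∘ₗ T ∘ₗ (e.symm : W →ₗ[k] V)) = ptr T := by
  have h1 : T = (T ∘ₗ (e.symm : W →ₗ[k] V)) ∘ₗ (e : V →ₗ[k] W) := by ext x; simp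
  conv_rhs => rw [h1]
  symm
  refine ptr_comm (e : V →ₗ[k] W) (T ∘ₗ (e.symm : W →ₗ[k] V)) (LinearMap.range T)
    ((LinearMap.range T).map (e : V →ₗ[k] W)) (fun w => ⟨e.symm w, rfl⟩) (fun x hx => ⟨x, hx, rfl⟩) ?_
  refine (hT.2.prec hT.1).comp_left (Prec.of_le ?_)
  rintro _ ⟨_, ⟨x, hx, rfl⟩, rfl⟩
  simpa using hx

end K667.Ptr
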