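import Groth.Prelude.Def_W4bk4goldsch23FF
import Groth.Agent.S10968
import Groth.Agent.S10969
import Groth.Agent.S10970
import Groth.Agent.S10971
import Groth.Agent.S10976
import Groth.Agent.S10978
import Groth.Agent.S10984
import Groth.Agent.S10985
import Groth.Agent.S10987
import Groth.Agent.S10989
import Groth.Agent.S10990
import Groth.Agent.S10992
import Groth.Agent.S11015
import Groth.Agent.S11016
import Mathlib.FieldTheory.IntermediateField.Adjoin.Basic
import Mathlib.RingTheory.Algebraic.Integral
import Mathlib.LinearAlgebra.FiniteDimensional.Lemmas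
import Mathlib.Algebra.Polynomial.Basis
import Mathlib.RingTheory.Algebraic.Basic

/-!
# Index-two rational subfields of a function field of genus at least two (helper667)
-/

set_option autoImplicit false

universe u v

namespace K667.RatSub

open FunFld

variable {k : Type u} {K : Type v} [Field k] [Field K] [Algebra k K]

theorem div_apply (hK : IsFunctionField k K) (x : K) (P : Place k K) : div k x P = P.ord x := by
  classical
  have h := Groth.Agent.S10970.result k K hK x
  rw [FunFld.div, dif_pos h]; rfl

theorem exp_ord {x : K} (hx : x ≠ 0) (P : Place k K) : P.1 x = WithZero.exp (-P.ord x) := by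
  have h1 : P.1 x ≠ 0 := (Valuation.ne_zero_iff _).2 hx
  rw [Place.ord, neg_neg, WithZero.exp_log h1]

theorem ord_inv (x : K) (P : Place k K) : P.ord x⁻¹ = -P.ord x := by
  simp [Place.ord, WithZero.log_inv]

theorem deg_pos (hK : IsFunctionField k K) (P : Place k K) : 0 < P.deg := by
  have := Groth.Agent.S10971.result k K hK P
  exact Module.finrank_pos

theorem deg_add (D E : Divisor k K) : (D + E).deg = D.deg + E.deg := by
  rw [Divisor.deg, Divisor.deg, Divisor.deg, Finsupp.sum_add_index']
  · intro P; simp
  · intro P a b; ring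

theorem deg_neg (D : Divisor k K) : (-D).deg = -D.deg := by
  have h := deg_add D (-D)
  rw [add_neg_cancel] at h
  have h0 : (0 : Divisor k K).deg = 0 := by simp [Divisor.deg]
  omega

theorem deg_sub (D E : Divisor k K) : (D - E).deg = D.deg - E.deg := by
  rw [sub_eq_add_neg, deg_add, deg_neg, sub_eq_add_neg]

theorem deg_zero : (0 : Divisor k K).deg = 0 := by simp [Divisor.deg]

theorem deg_nsmul (n : ℕ) (D : Divisor k K) : (n • D).deg = n * D.deg := by
  induction n with
  | zero => simp [deg_zero]
  | succ n ih => rw [succ_nsmul, deg_add, ih]; push_cast; ring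

/-- An effective divisor of degree zero is zero. -/
theorem eq_zero_of_nonneg_of_deg_eq_zero (hK : IsFunctionField k K) {D : Divisor k K} (h : 0 ≤ D)
    (hd : D.deg = 0) : D = 0 := by
  ext P
  by_contra hP
  have h1 : ∀ Q ∈ D.support, 0 ≤ D Q * (Q.deg : ℤ) := fun Q _ =>
    mul_nonneg (h Q) (by positivity)
  have h2 : D.deg = ∑ Q ∈ D.support, D Q * (Q.deg : ℤ) := rfl
  rw [h2, Finset.sum_eq_zero_iff_of_nonneg h1] at hd
  have h3 := hd P (Finsupp.mem_support_iff.2 hP)
  rcases mul_eq_zero.1 h3 with h4 | h4
  · exact hP h4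
  · have := deg_pos hK P
    omega

/-- Transcendence from finite nonzero degree. -/
theorem transcendental_of_finrank (hK : IsFunctionField k K) {x : K}
    (hx : Module.finrank (IntermediateField.adjoin k ({x} : Set K)) K ≠ 0) : Transcendental k x := by
  intro halg
  have h1 : FiniteDimensional (IntermediateField.adjoin k ({x} : Set K)) K :=
    Module.finite_of_finrank_pos (Nat.pos_of_ne_zero hx)
  have h2 : FiniteDimensional k (IntermediateField.adjoin k ({x} : Set K)) :=
    IntermediateField.adjoin.finiteDimensional halg.isIntegral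
  have h3 : FiniteDimensional k K :=
    Module.Finite.trans (IntermediateField.adjoin k ({x} : Set K)) K
  obtain ⟨⟨t, ht, -⟩, -⟩ := hK
  exact ht (Algebra.IsAlgebraic.isAlgebraic t)

/-- The divisor of poles of `x`. -/
noncomputable def poleDiv (x : K) : Divisor k K :=
  (div k x⁻¹).mapRange (fun n => max n 0) (by simp)

theorem poleDiv_apply (hK : IsFunctionField k K) (x : K) (P : Place k K) :
    poleDiv x P = max (-P.ord x) 0 := by
  rw [poleDiv, Finsupp.mapRange_apply, div_apply hK, ord_inv]

theorem poleDiv_nonneg (x : K) : 0 ≤ poleDiv (k := k) x := by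
  intro P
  rw [poleDiv, Finsupp.mapRange_apply]
  exact le_max_right _ _

theorem adjoin_inv (x : K) : IntermediateField.adjoin k ({x⁻¹} : Set K) =
    IntermediateField.adjoin k ({x} : Set K) := by
  apply le_antisymm
  · rw [IntermediateField.adjoin_simple_le_iff]
    exact inv_mem (IntermediateField.mem_adjoin_simple_self k x)
  · rw [IntermediateField.adjoin_simple_le_iff]
    have := inv_mem (IntermediateField.mem_adjoin_simple_self k x⁻¹)
    rwa [inv_inv] at this

theorem deg_poleDiv (hK : IsFunctionField k K) {x : K} (hx : Transcendental k x) :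
    (poleDiv (k := k) x).deg = Module.finrank (IntermediateField.adjoin k ({x} : Set K)) K := by
  classical
  have hx' : Transcendental k x⁻¹ := fun h => hx (by simpa using h.inv)
  have h := Groth.Agent.S10969.result k K hK x⁻¹ hx'
  rw [adjoin_inv] at h
  rw [← h]
  have h1 : (poleDiv (k := k) x).deg = ∑ P ∈ (div k x⁻¹).support,
      (max (div k x⁻¹ P) 0) * (P.deg : ℤ) := by
    rw [Divisor.deg, Finsupp.sum_of_support_subset (s := (div k x⁻¹).support)]
    · rfl
    · exact Finsupp.support_mapRange
    · intro P _; simp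
  rw [h1, Finset.sum_filter]
  refine Finset.sum_congr rfl fun P _ => ?_
  split_ifs with h2
  · rw [max_eq_left h2.le]
  · rw [max_eq_right (not_lt.1 h2), zero_mul]

theorem mem_L_poleDiv (hK : IsFunctionField k K) {x : K} (hx : x ≠ 0) {i n : ℕ} (hin : i ≤ n) :
    x ^ i ∈ L (n • poleDiv (k := k) x) := by
  intro P
  rw [map_pow, exp_ord hx, ← WithZero.exp_nsmul, WithZero.exp_le_exp, Finsupp.smul_apply,
    poleDiv_apply hK]
  have h1 : 0 ≤ max (-P.ord x) 0 := le_max_right _ _
  calc i • (-P.ord x) ≤ i • max (-P.ord x) 0 := by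
        exact nsmul_le_nsmul_right (le_max_left _ _) i
    _ ≤ n • max (-P.ord x) 0 := nsmul_le_nsmul_left h1 hin

theorem linearIndependent_pow (x : K) (hx : Transcendental k x) (n : ℕ) :
    LinearIndependent k fun i : Fin n => x ^ (i : ℕ) := by
  have h := (Polynomial.basisMonomials k).linearIndependent
  have h2 := h.map' (Polynomial.aeval x).toLinearMap
    (LinearMap.ker_eq_bot.2 (transcendental_iff_injective.1 hx))
  have h3 := h2.comp (fun i : Fin n => (i : ℕ)) Fin.val_injective
  have e : (fun i : Fin n => x ^ (i : ℕ)) =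
      ((⇑(Polynomial.aeval x).toLinearMap ∘ ⇑(Polynomial.basisMonomials k)) ∘ fun i : Fin n => (i : ℕ)) := by
    ext i
    simp
  rw [e]
  exact h3

theorem le_ell_poleDiv (hK : IsFunctionField k K) {x : K} (hx : Transcendental k x) (n : ℕ) :
    n + 1 ≤ ell (n • poleDiv (k := k) x) := by
  have hx0 : x ≠ 0 := by rintro rfl; exact hx isAlgebraic_zero
  have := Groth.Agent.S10976.result k K hK (n • poleDiv (k := k) x)
  let b : Fin (n + 1) → L (n • poleDiv (k := k) x) :=
    fun i => ⟨x ^ (i : ℕ), mem_L_poleDiv hK hx0 (Nat.lt_succ_iff.1 i.2)⟩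
  have hb : LinearIndependent k b := by
    have := linearIndependent_pow x hx (n + 1)
    exact LinearIndependent.of_comp (L (n • poleDiv (k := k) x)).subtype this
  have := hb.fintype_card_le_finrank
  rw [Fintype.card_fin] at this
  exact this

/-- Existence of a canonical divisor. -/
theorem exists_isCanonical (hK : IsFunctionField k K) (hg : 1 ≤ genus k K) :
    ∃ C : Divisor k K, IsCanonical k K C := by
  obtain ⟨h1, h2⟩ := Groth.Agent.S10984.result k K hK 0
  have h3 : ell (0 : Divisor k K) = 1 := by
    rw [ell, Groth.Agent.S10978.result k K hK]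
    rw [Submodule.one_eq_span]
    exact finrank_span_singleton one_ne_zero
  rw [h3, deg_zero] at h2
  have h4 : 0 < Module.finrank k (WD (0 : Divisor k K)) := by
    have : (Module.finrank k (WD (0 : Divisor k K)) : ℤ) = genus k K := by rw [h2]; ring
    omega
  obtain ⟨ω, hω⟩ : ∃ ω : WD (0 : Divisor k K), ω ≠ 0 := by
    by_contra hc
    push Not at hc
    have : Subsingleton (WD (0 : Divisor k K)) := subsingleton_of_forall_eq 0 hc
    rw [Module.finrank_zero_of_subsingleton] at h4
    exact lt_irrefl _ h4
  have h5 : (ω : Module.Dual k (adele k K)) ≠ 0 := fun h => hω (Subtype.ext h)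
  obtain ⟨C, hC⟩ := Groth.Agent.S10985.result k K hK ω ⟨0, ω.2⟩ h5
  exact ⟨C, ω, h5, hC⟩

/-- Multiplication of an adele by an element of `K`. -/
theorem smul_mem_adele (hK : IsFunctionField k K) (x : K) (a : Place k K → K)
    (ha : a ∈ adele k K) : x • a ∈ adele k K := by
  by_cases hx : x = 0
  · subst hx; rw [zero_smul]; exact zero_mem _
  have h1 : {P : Place k K | ¬ P.1 (a P) ≤ 1}.Finite := ha
  have h2 := Groth.Agent.S10970.result k K hK x
  change {P : Place k K | ¬ P.1 (x * a P) ≤ 1}.Finite
  refine (h1.union h2).subset fun P hP => ?_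
  by_contra h3
  rw [Set.mem_union, not_or] at h3
  obtain ⟨h4, h5⟩ := h3
  simp only [Set.mem_ofPred_eq, not_not, Function.mem_support] at h4 h5
  apply hP
  rw [map_mul, exp_ord hx, h5, neg_zero, WithZero.exp_zero, one_mul]
  exact h4

/-- A divisor linearly equivalent to a canonical divisor is canonical. -/
theorem isCanonical_add_div (hK : IsFunctionField k K) {C : Divisor k K} (hC : IsCanonical k K C)
    {f : K} (hf : f ≠ 0) : IsCanonical k K (C + div k f) := by
  obtain ⟨ω, hω, hωC⟩ := hC
  have hx := smul_mem_adele hK f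
  refine ⟨mulW f hx ω, ?_, Groth.Agent.S10987.result k K hK f hf hx ω C hωC⟩
  intro h0
  apply hω
  ext ⟨a, ha⟩
  have h1 := smul_mem_adele hK f⁻¹ a ha
  have h2 := LinearMap.congr_fun h0 ⟨f⁻¹ • a, h1⟩
  rw [LinearMap.zero_apply] at h2 ⊢
  rw [← h2]
  change _ = ω ⟨f • (f⁻¹ • a), _⟩
  congr 1
  apply Subtype.ext
  change a = f • (f⁻¹ • a)
  rw [smul_smul, mul_inv_cancel₀ hf, one_smul]

/-- For `[K : k(x)] = 2` and `n + 1 = g ≥ 1`, `n` times the pole divisor of `x` is canonical. -/
theorem isCanonical_poleDiv (hK : IsFunctionField k K) {x : K} {n : ℕ} (hn : genus k K = n + 1)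
    (hx : Module.finrank (IntermediateField.adjoin k ({x} : Set K)) K = 2) :
    IsCanonical k K (n • poleDiv (k := k) x) := by
  have htr : Transcendental k x := transcendental_of_finrank hK (by rw [hx]; norm_num)
  obtain ⟨C, hC⟩ := exists_isCanonical hK (by omega)
  have h1 := Groth.Agent.S10990.result k K hK C hC (n • poleDiv (k := k) x)
  obtain ⟨h2, h3⟩ := (Groth.Agent.S10992.result k K hK C).1 hC
  have hdeg : (n • poleDiv (k := k) x).deg = 2 * n := by
    rw [deg_nsmul, deg_poleDiv hK htr, hx]; push_cast; ring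
  have hle := le_ell_poleDiv hK htr n
  rw [hdeg, hn] at h1
  have h4 : 1 ≤ ell (C - n • poleDiv (k := k) x) := by
    have : (1 : ℤ) ≤ ell (C - n • poleDiv (k := k) x) := by
      push_cast at h1 ⊢
      omega
    exact_mod_cast this
  have h5 : L (C - n • poleDiv (k := k) x) ≠ ⊥ := by
    intro h
    rw [ell, h] at h4
    simp at h4
  obtain ⟨f, hf, hf2⟩ := (Groth.Agent.S11016.result k K hK _).1 h5
  have h6 : (C - n • poleDiv (k := k) x + div k f).deg = 0 := by
    rw [deg_add, deg_sub, Groth.Agent.S10968.result k K hK, h3, hdeg, hn]; push_cast; ring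
  have h7 := eq_zero_of_nonneg_of_deg_eq_zero hK hf2 h6
  have h8 : n • poleDiv (k := k) x = C + div k f := by
    have : n • poleDiv (k := k) x = C + div k f - (C - n • poleDiv (k := k) x + div k f) := by abel
    rw [this, h7, sub_zero]
  rw [h8]
  exact isCanonical_add_div hK hC hf

/-- For `[K : k(x)] = 2` and `n + 1 = g`, `L(n (x)_∞)` is spanned by the powers of `x`. -/
theorem L_poleDiv (hK : IsFunctionField k K) {x : K} {n : ℕ} (hn : genus k K = n + 1)
    (hx : Module.finrank (IntermediateField.adjoin k ({x} : Set K)) K = 2) :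
    L (n • poleDiv (k := k) x) = Submodule.span k (Set.range fun i : Fin (n + 1) => x ^ (i : ℕ)) := by
  have htr : Transcendental k x := transcendental_of_finrank hK (by rw [hx]; norm_num)
  have hx0 : x ≠ 0 := by rintro rfl; exact htr isAlgebraic_zero
  have h1 := isCanonical_poleDiv hK hn hx
  obtain ⟨h2, h3⟩ := (Groth.Agent.S10992.result k K hK _).1 h1
  have := Groth.Agent.S10976.result k K hK (n • poleDiv (k := k) x)
  symm
  apply Submodule.eq_of_le_of_finrank_eq
  · rw [Submodule.span_le]
    rintro _ ⟨i, rfl⟩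
    exact mem_L_poleDiv hK hx0 (Nat.lt_succ_iff.1 i.2)
  · rw [finrank_span_eq_card (linearIndependent_pow x htr (n + 1)), Fintype.card_fin]
    rw [ell] at h2
    rw [h2, hn]

theorem span_le_adjoin (x : K) (n : ℕ) :
    (Submodule.span k (Set.range fun i : Fin (n + 1) => x ^ (i : ℕ)) : Set K) ⊆
      IntermediateField.adjoin k ({x} : Set K) := by
  intro y hy
  have : Submodule.span k (Set.range fun i : Fin (n + 1) => x ^ (i : ℕ)) ≤
      (IntermediateField.adjoin k ({x} : Set K)).toSubalgebra.toSubmodule := by
    rw [Submodule.span_le]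
    rintro _ ⟨i, rfl⟩
    exact pow_mem (IntermediateField.mem_adjoin_simple_self k x) _
  exact this hy

theorem mem_adjoin (hK : IsFunctionField k K) (hg : 2 ≤ genus k K) (x x' : K)
    (hx : Module.finrank (IntermediateField.adjoin k ({x} : Set K)) K = 2)
    (hx' : Module.finrank (IntermediateField.adjoin k ({x'} : Set K)) K = 2) :
    x' ∈ IntermediateField.adjoin k ({x} : Set K) := by
  obtain ⟨n, hn⟩ : ∃ n, genus k K = n + 1 := ⟨genus k K - 1, by omega⟩
  have htr' : Transcendental k x' := transcendental_of_finrank hK (by rw [hx']; norm_num)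
  have hx'0 : x' ≠ 0 := by rintro rfl; exact htr' isAlgebraic_zero
  obtain ⟨f, hf, hfC⟩ := Groth.Agent.S10989.result k K hK _ _ (isCanonical_poleDiv hK hn hx)
    (isCanonical_poleDiv hK hn hx')
  have hL := L_poleDiv hK hn hx
  have h1 : f * 1 ∈ L (n • poleDiv (k := k) x) := by
    rw [Groth.Agent.S11015.result k K hK _ f 1 hf, ← hfC]
    have := mem_L_poleDiv (k := k) hK hx'0 (i := 0) (n := n) (by omega)
    rwa [pow_zero] at this
  have h2 : f * x' ∈ L (n • poleDiv (k := k) x) := by
    rw [Groth.Agent.S11015.result k K hK _ f x' hf, ← hfC]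
    have := mem_L_poleDiv (k := k) hK hx'0 (i := 1) (n := n) (by omega)
    rwa [pow_one] at this
  rw [hL] at h1 h2
  have h3 := span_le_adjoin (k := k) x n h1
  have h4 := span_le_adjoin (k := k) x n h2
  rw [mul_one] at h3
  have h5 := div_mem h4 h3
  rwa [mul_div_cancel_left₀ _ hf] at h5

/-- A function field of genus at least two has at most one rational subfield of index two. -/
theorem rational_subfield_unique (hK : IsFunctionField k K) (hg : 2 ≤ genus k K) (x x' : K)
    (hx : Module.finrank (IntermediateField.adjoin k ({x} : Set K)) K = 2)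
    (hx' : Module.finrank (IntermediateField.adjoin k ({x'} : Set K)) K = 2) :
    IntermediateField.adjoin k ({x} : Set K) = IntermediateField.adjoin k ({x'} : Set K) := by
  apply le_antisymm
  · rw [IntermediateField.adjoin_simple_le_iff]
    exact mem_adjoin hK hg x' x hx' hx
  · rw [IntermediateField.adjoin_simple_le_iff]
    exact mem_adjoin hK hg x x' hx hx'

end K667.RatSub
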