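import Groth.Agent.FunFld.K667.PlaceRes
import Groth.Agent.FunFld.K661.OverInt
import Mathlib.RingTheory.Trace.Basic

/-!
# Trace formula for Tate's local residues in a finite separable extension (helper667)
-/

set_option autoImplicit false

universe u v w

namespace K667.TateExt

open LinearMap Module K667.Ptr K667.TateRes K667.TatePi K667.PlaceRes FunFld

section Lin

variable {k : Type*} [Field k]
variable {V W : Type*} [AddCommGroup V] [Module k V] [AddCommGroup W] [Module k W]

theorem prec_iff {A B : Submodule k V} : Prec A B ↔ FiniteDimensional k (A.map B.mkQ) := by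
  constructor
  · rintro ⟨E, hE, hle⟩
    refine Submodule.finiteDimensional_of_le (S₂ := E.map B.mkQ) ?_
    rintro _ ⟨x, hx, rfl⟩
    obtain ⟨b, hb, e, he, rfl⟩ := Submodule.mem_sup.1 (hle hx)
    refine ⟨e, he, ?_⟩
    rw [map_add, (show B.mkQ b = 0 from (Submodule.Quotient.mk_eq_zero B).2 hb), zero_add]
  · intro h
    obtain ⟨q, hq⟩ := Submodule.exists_isCompl (B.submoduleOf A)
    refine ⟨q.map A.subtype, ?_, fun x hx => ?_⟩
    · let r : q →ₗ[k] A.map B.mkQ := (B.mkQ ∘ₗ A.subtype ∘ₗ q.subtype).codRestrict _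
        fun x => ⟨_, (x : A).2, rfl⟩
      have hr : Function.Injective r := by
        rw [← LinearMap.ker_eq_bot, eq_bot_iff]
        intro x hx
        have h1 : B.mkQ ((x : A) : V) = 0 := congrArg Subtype.val hx
        have h2 : (x : A) ∈ B.submoduleOf A ⊓ q :=
          ⟨(Submodule.Quotient.mk_eq_zero B).1 h1, x.2⟩
        rw [hq.inf_eq_bot, Submodule.mem_bot] at h2
        rw [Submodule.mem_bot]
        exact Subtype.ext h2
      have : FiniteDimensional k q := Module.Finite.of_injective r hr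
      infer_instance
    · have h1 : (⟨x, hx⟩ : A) ∈ B.submoduleOf A ⊔ q := by rw [hq.sup_eq_top]; trivial
      obtain ⟨b, hb, c, hc, hbc⟩ := Submodule.mem_sup.1 h1
      exact Submodule.mem_sup.2 ⟨b, hb, c, ⟨c, hc, rfl⟩, congrArg Subtype.val hbc⟩

theorem prec_comap' (j : W →ₗ[k] V) {A B : Submodule k V} (h : Prec A B) :
    Prec (A.comap j) (B.comap j) := by
  rw [prec_iff] at h ⊢
  let r : (W ⧸ B.comap j) →ₗ[k] (V ⧸ B) := (B.comap j).mapQ B j le_rfl
  have hr : LinearMap.ker r = ⊥ := by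
    rw [Submodule.ker_mapQ]
    exact Submodule.mkQ_map_self _
  let r' : ((A.comap j).map (B.comap j).mkQ : Submodule k _) →ₗ[k] (A.map B.mkQ : Submodule k _) :=
    (r ∘ₗ Submodule.subtype _).codRestrict _ (by
      rintro ⟨_, x, hx, rfl⟩
      exact ⟨j x, hx, rfl⟩)
  refine Module.Finite.of_injective r' ?_
  intro x y hxy
  have h1 : r x = r y := congrArg (fun z : (A.map B.mkQ : Submodule k _) => (z : V ⧸ B)) hxy
  exact Subtype.ext (LinearMap.ker_eq_bot.1 hr h1)

end Lin

section Diag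

variable {k : Type u} {K : Type v} [Field k] [Field K] [Algebra k K]

/-- The elements integral at all places of `T`. -/
def aS (T : Finset (Place k K)) : Submodule k K where
  carrier := {x | ∀ Q ∈ T, Q.1 x ≤ 1}
  add_mem' {x y} hx hy Q hQ := (Q.1.map_add x y).trans (max_le (hx Q hQ) (hy Q hQ))
  zero_mem' Q _ := by simp
  smul_mem' c x hx Q hQ := by
    change Q.1 (c • x) ≤ _
    rw [Algebra.smul_def, map_mul]
    exact mul_le_one' (Q.2.1 c) (hx Q hQ)

theorem mem_aS {T : Finset (Place k K)} {x : K} : x ∈ aS T ↔ ∀ Q ∈ T, Q.1 x ≤ 1 := Iff.rfl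

/-- The diagonal. -/
def dgT (T : Finset (Place k K)) : K →ₗ[k] (T → K) := LinearMap.pi fun _ => LinearMap.id

theorem dgT_apply {T : Finset (Place k K)} (x : K) (P : T) : dgT T x P = x := rfl

theorem comap_dgT (T : Finset (Place k K)) : (piS fun Q : T => oS Q.1 0).comap (dgT T) = aS T := by
  ext x
  rw [Submodule.mem_comap, mem_piS, mem_aS]
  constructor
  · intro h Q hQ
    exact mem_oS_zero.1 (h ⟨Q, hQ⟩)
  · intro h Q
    exact mem_oS_zero.2 (h Q.1 Q.2)

theorem cover_dgT (T : Finset (Place k K)) :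
    Prec ⊤ ((piS fun Q : T => oS Q.1 0) ⊔ LinearMap.range (dgT T)) := by
  classical
  refine Prec.of_le fun a _ => ?_
  obtain ⟨y, hy⟩ := K664.weak_approx_le T (fun Q => if h : Q ∈ T then a ⟨Q, h⟩ else 0) (fun _ => 0)
  refine Submodule.mem_sup.2 ⟨a - dgT T y, ?_, dgT T y, ⟨y, rfl⟩, sub_add_cancel _ _⟩
  rw [mem_piS]
  intro Q
  have h1 := hy Q.1 Q.2
  rw [dif_pos Q.2, neg_zero] at h1
  rw [mem_oS, Pi.sub_apply, dgT_apply, Valuation.map_sub_swap]
  exact h1

variable (hfr : ∀ P : Place k K, FiniteDimensional k (IsLocalRing.ResidueField P.O))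

include hfr in
theorem prec_mul_aS (T : Finset (Place k K)) (z : K) :
    Prec ((aS T).map (LinearMap.mulLeft k z)) (aS T) := by
  have h1 : Prec ((piS fun Q : T => oS Q.1 0).map
      (TatePi.piMap fun _ : T => LinearMap.mulLeft k z)) (piS fun Q : T => oS Q.1 0) :=
    prec_piMap fun Q => by
      have := hfr Q.1
      exact prec_mul Q.1 z 0
  have h2 := prec_comap' (dgT T) h1
  rw [comap_dgT] at h2
  refine (Prec.of_le ?_).trans h2
  rintro _ ⟨x, hx, rfl⟩
  rw [← comap_dgT] at hx
  exact ⟨dgT T x, hx, rfl⟩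

include hfr in
/-- The residue with respect to a semilocal ring is the sum of the local residues. -/
theorem tres_aS (T : Finset (Place k K)) (hT : T.Nonempty) (y x : K) :
    tres (aS T) (LinearMap.mulLeft k y) (LinearMap.mulLeft k x) = ∑ Q ∈ T, pres Q y x := by
  classical
  obtain ⟨Q₀, hQ₀⟩ := hT
  have hpu : ∀ z : K, ∀ Q : T, Prec ((oS Q.1 0).map (LinearMap.mulLeft k z)) (oS Q.1 0) :=
    fun z Q => by
      have := hfr Q.1
      exact prec_mul Q.1 z 0
  have h1 := tres_piMap (fun Q : T => oS Q.1 0) (fun _ => LinearMap.mulLeft k y)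
    (fun _ => LinearMap.mulLeft k x) (fun _ => mulLeft_comm y x) (hpu y) (hpu x)
  have hcomm : (TatePi.piMap fun _ : T => LinearMap.mulLeft k y) ∘ₗ
      (TatePi.piMap fun _ : T => LinearMap.mulLeft k x) =
      (TatePi.piMap fun _ : T => LinearMap.mulLeft k x) ∘ₗ
      (TatePi.piMap fun _ : T => LinearMap.mulLeft k y) := by
    refine LinearMap.ext fun a => funext fun P => ?_
    change y * (x * a P) = x * (y * a P)
    ring
  have hj : Function.Injective (dgT T) := fun a b hab => congrFun hab ⟨Q₀, hQ₀⟩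
  have hfu : ∀ z, ∀ a, dgT T (LinearMap.mulLeft k z a) =
      (TatePi.piMap fun _ : T => LinearMap.mulLeft k z) (dgT T a) := fun z a => rfl
  have h2 := tres_of_injective (dgT T) hj (cover_dgT T) (prec_piMap (hpu y)) (prec_piMap (hpu x))
    hcomm (hfu y) (hfu x)
  rw [h1, comap_dgT] at h2
  rw [← h2, ← Finset.sum_coe_sort T (fun Q => pres Q y x)]
  rfl

end Diag

section Ext

variable {k : Type u} {K K' : Type v} [Field k] [Field K] [Field K'] [Algebra k K] [Algebra K K']
  [Algebra k K'] [IsScalarTower k K K'] [FiniteDimensional K K']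

theorem val_trace_le (hG : ∃ t : K, K660.Places.IsGen k K t) (P : Place k K) {z : K'}
    (hz : ∀ Q : Place k K', IsOver Q P → Q.1 z ≤ 1) : P.1 (Algebra.trace K K' z) ≤ 1 := by
  let := K661.OverFF.algO P K'
  have := K661.OverFF.towerO P K'
  have h1 : IsIntegral P.O z := (K661.OverInt.isIntegral_iff hG P).2 hz
  have h2 : IsIntegral P.O (Algebra.trace K K' z) := Algebra.isIntegral_trace h1
  exact K661.Place.mem_of_isIntegral P.O (fun r => r.2) h2

theorem exists_bound (T : Finset (Place k K')) {n : ℕ} (b : Fin n → K') :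
    ∃ N : ℕ, ∀ Q ∈ T, ∀ i, Q.1 (b i) ≤ WithZero.exp (N : ℤ) := by
  classical
  refine ⟨∑ Q ∈ T, ∑ i, (WithZero.log (Q.1 (b i))).natAbs, fun Q hQ i => ?_⟩
  by_cases h0 : Q.1 (b i) = 0
  · rw [h0]; exact zero_le
  · rw [← WithZero.exp_log h0, WithZero.exp_le_exp]
    have h1 : (WithZero.log (Q.1 (b i))).natAbs ≤ ∑ i, (WithZero.log (Q.1 (b i))).natAbs :=
      Finset.single_le_sum (f := fun i => (WithZero.log (Q.1 (b i))).natAbs)
        (fun _ _ => Nat.zero_le _) (Finset.mem_univ i)
    have h2 : ∑ i, (WithZero.log (Q.1 (b i))).natAbs ≤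
        ∑ Q ∈ T, ∑ i, (WithZero.log (Q.1 (b i))).natAbs :=
      Finset.single_le_sum (f := fun Q : Place k K' => ∑ i, (WithZero.log (Q.1 (b i))).natAbs)
        (fun _ _ => Nat.zero_le _) hQ
    omega

omit [IsScalarTower k K K'] [FiniteDimensional K K'] in
theorem val_pow_le {P : Place k K} {t : K} (ht : P.1 t = WithZero.exp (-1)) {Q : Place k K'}
    (hQ : IsOver Q P) (N : ℕ) : Q.1 (algebraMap K K' t ^ N) ≤ WithZero.exp (-(N : ℤ)) := by
  have h1 := K661.Place.ramIdx_pos hQ
  rw [map_pow, K661.Place.val_algebraMap hQ, ht, ← WithZero.exp_nsmul, ← WithZero.exp_nsmul,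
    WithZero.exp_le_exp]
  simp only [nsmul_eq_mul, mul_neg, mul_one, neg_le_neg_iff]
  have : (N : ℤ) * 1 ≤ N * (ramIdx Q P : ℤ) :=
    mul_le_mul_of_nonneg_left (by exact_mod_cast h1) (by positivity)
  linarith

variable [Algebra.IsSeparable K K']

/-- **Trace formula** for Tate residues. -/
theorem pres_trace (hG : ∃ t : K, K660.Places.IsGen k K t)
    (hfr : ∀ P : Place k K, FiniteDimensional k (IsLocalRing.ResidueField P.O))
    (hfr' : ∀ Q : Place k K', FiniteDimensional k (IsLocalRing.ResidueField Q.O))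
    (P : Place k K) (T : Finset (Place k K')) (hT : ∀ Q, Q ∈ T ↔ IsOver Q P) (y : K') (x : K) :
    pres P (Algebra.trace K K' y) x = ∑ Q ∈ T, pres Q y (algebraMap K K' x) := by
  classical
  have hTne : T.Nonempty := by
    obtain ⟨Q, hQ⟩ := K661.OverFF.exists_over (K' := K') hG P
    exact ⟨Q, (hT Q).2 hQ⟩
  have hfrP := hfr P
  obtain ⟨t, ht⟩ := K661.Place.exists_unif P
  have ht0 : t ≠ 0 := by
    rintro rfl
    rw [map_zero] at ht
    exact WithZero.exp_ne_zero ht.symm
  -- the basis, dual to `b`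
  let n := Module.finrank K K'
  let b : Basis (Fin n) K K' := Module.finBasis K K'
  let c : Basis (Fin n) K K' := (Algebra.traceForm K K').dualBasis (traceForm_nondegenerate K K') b
  have hc : ∀ z i, c.repr z i = Algebra.trace K K' (z * b i) := fun z i =>
    LinearMap.BilinForm.dualBasis_repr_apply _ _ _ _
  obtain ⟨e, he⟩ : ∃ e : K' ≃ₗ[k] (Fin n → K), e = c.equivFun.restrictScalars k := ⟨_, rfl⟩
  have he1 : ∀ z i, e z i = c.repr z i := fun z i => by rw [he]; rfl
  have hemul : ∀ (a : K) (z : K') i, e (algebraMap K K' a * z) i = a * e z i := by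
    intro a z i
    rw [he1, he1, ← Algebra.smul_def, map_smul]; rfl
  have hesymm : ∀ a : Fin n → K, e.symm a = ∑ i, algebraMap K K' (a i) * c i := by
    intro a
    rw [LinearEquiv.symm_apply_eq]
    ext j
    rw [he1, map_sum, Finsupp.finsetSum_apply]
    rw [Finset.sum_eq_single j]
    · rw [← Algebra.smul_def, map_smul]; simp
    · intro i _ hij
      rw [← Algebra.smul_def, map_smul]; simp [Finsupp.single_eq_of_ne' hij]
    · intro hj; exact absurd (Finset.mem_univ j) hj
  -- the two lattices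
  let A : Submodule k (Fin n → K) := piS fun _ : Fin n => oS P 0
  have hmulpi : ∀ a : K, Prec (A.map (TatePi.piMap fun _ : Fin n => LinearMap.mulLeft k a)) A :=
    fun a => prec_piMap fun _ => prec_mul P a 0
  have hcong1 : Prec ((aS T).map (e : K' →ₗ[k] (Fin n → K))) A := by
    obtain ⟨N, hN⟩ := exists_bound T b
    refine (Prec.of_le ?_).trans (hmulpi (t ^ N)⁻¹)
    rintro _ ⟨z, hz, rfl⟩
    refine ⟨fun i => t ^ N * e z i, ?_, ?_⟩
    · change _ ∈ A
      rw [mem_piS]
      intro i
      rw [mem_oS_zero, he1, hc]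
      have h1 : t ^ N * Algebra.trace K K' (z * b i) =
          Algebra.trace K K' (algebraMap K K' t ^ N * (z * b i)) := by
        rw [← map_pow, ← Algebra.smul_def, map_smul, smul_eq_mul]
      rw [h1]
      refine val_trace_le hG P fun Q hQ => ?_
      rw [map_mul, map_mul]
      calc Q.1 (algebraMap K K' t ^ N) * (Q.1 z * Q.1 (b i))
          ≤ WithZero.exp (-(N : ℤ)) * (1 * WithZero.exp (N : ℤ)) :=
            mul_le_mul' (val_pow_le ht hQ N) (mul_le_mul' (hz Q ((hT Q).2 hQ)) (hN Q ((hT Q).2 hQ) i))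
        _ = 1 := by rw [one_mul, ← WithZero.exp_add, neg_add_cancel, WithZero.exp_zero]
    · ext i
      change (t ^ N)⁻¹ * (t ^ N * e z i) = e z i
      rw [inv_mul_cancel_left₀ (pow_ne_zero N ht0)]
  have hcong2 : Prec A ((aS T).map (e : K' →ₗ[k] (Fin n → K))) := by
    obtain ⟨N, hN⟩ := exists_bound T c
    have h1 := (prec_mul_aS hfr' T (algebraMap K K' t ^ N)⁻¹).map (e : K' →ₗ[k] (Fin n → K))
    refine (Prec.of_le ?_).trans h1
    intro a ha
    refine ⟨e.symm a, ⟨algebraMap K K' t ^ N * e.symm a, ?_, ?_⟩, e.apply_symm_apply a⟩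
    · change _ ∈ aS T
      intro Q hQ
      rw [map_mul]
      have h2 : Q.1 (e.symm a) ≤ WithZero.exp (N : ℤ) := by
        rw [hesymm]
        refine Valuation.map_sum_le _ fun i _ => ?_
        rw [map_mul]
        refine (mul_le_mul' ?_ (hN Q hQ i)).trans_eq (one_mul _)
        rw [K661.Place.val_algebraMap_le_one_iff ((hT Q).1 hQ)]
        exact mem_oS_zero.1 (mem_piS.1 ha i)
      calc Q.1 (algebraMap K K' t ^ N) * Q.1 (e.symm a)
          ≤ WithZero.exp (-(N : ℤ)) * WithZero.exp (N : ℤ) :=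
            mul_le_mul' (val_pow_le ht ((hT Q).1 hQ) N) h2
        _ = 1 := by rw [← WithZero.exp_add, neg_add_cancel, WithZero.exp_zero]
    · change (algebraMap K K' t ^ N)⁻¹ * (algebraMap K K' t ^ N * e.symm a) = e.symm a
      rw [inv_mul_cancel_left₀ (pow_ne_zero N (by simpa using ht0))]
  -- transport
  let f' : (Fin n → K) →ₗ[k] (Fin n → K) :=
    (e : K' →ₗ[k] (Fin n → K)) ∘ₗ LinearMap.mulLeft k y ∘ₗ (e.symm : (Fin n → K) →ₗ[k] K')
  let g' : (Fin n → K) →ₗ[k] (Fin n → K) := TatePi.piMap fun _ : Fin n => LinearMap.mulLeft k x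
  have hf' : ∀ z, e (LinearMap.mulLeft k y z) = f' (e z) := fun z => by
    change e (y * z) = e (y * e.symm (e z))
    rw [e.symm_apply_apply]
  have hg' : ∀ z, e (LinearMap.mulLeft k (algebraMap K K' x) z) = g' (e z) := fun z => by
    ext i
    exact hemul x z i
  have hfg' : f' ∘ₗ g' = g' ∘ₗ f' := by
    refine LinearMap.ext fun a => ?_
    obtain ⟨z, rfl⟩ := e.surjective a
    change f' (g' (e z)) = g' (f' (e z))
    rw [← hg', ← hf', ← hf', ← hg']
    change e (y * (algebraMap K K' x * z)) = e (algebraMap K K' x * (y * z))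
    rw [mul_left_comm]
  have h1 := tres_conj e (aS T) (prec_mul_aS hfr' T y) (prec_mul_aS hfr' T (algebraMap K K' x))
    (mulLeft_comm y (algebraMap K K' x)) hf' hg'
  have key : ∀ {h : K' →ₗ[k] K'} {h' : (Fin n → K) →ₗ[k] (Fin n → K)},
      (∀ z, e (h z) = h' (e z)) → Prec ((aS T).map h) (aS T) →
      Prec (((aS T).map (e : K' →ₗ[k] (Fin n → K))).map h')
        ((aS T).map (e : K' →ₗ[k] (Fin n → K))) := by
    intro h h' hh hA
    refine (Prec.of_le ?_).trans (hA.map (e : K' →ₗ[k] (Fin n → K)))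
    rintro _ ⟨_, ⟨z, hz, rfl⟩, rfl⟩
    exact ⟨h z, ⟨z, hz, rfl⟩, hh z⟩
  have h2 := tres_congr hcong1 hcong2 (key hf' (prec_mul_aS hfr' T y))
    (key hg' (prec_mul_aS hfr' T (algebraMap K K' x))) hfg'
  -- the matrix entries
  have hentry : ∀ (_ : DecidableEq (Fin n)) (i j : Fin n), LinearMap.proj i ∘ₗ f' ∘ₗ LinearMap.single k (fun _ => K) j =
      LinearMap.mulLeft k (c.repr (y * c j) i) := by
    intro _ i j
    refine LinearMap.ext fun a => ?_
    change e (y * e.symm (Pi.single j a)) i = c.repr (y * c j) i * a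
    have h3 : e.symm (Pi.single j a) = algebraMap K K' a * c j := by
      rw [hesymm, Finset.sum_eq_single j]
      · rw [Pi.single_eq_same]
      · intro i _ hij
        rw [Pi.single_eq_of_ne hij, map_zero, zero_mul]
      · intro hj; exact absurd (Finset.mem_univ j) hj
    rw [h3, mul_left_comm, hemul, he1, mul_comm]
  have h3 := tres_pi (fun _ : Fin n => oS P 0) f' (fun _ => LinearMap.mulLeft k x) hfg'
    (fun i j => by rw [hentry]; exact prec_mul P _ 0) (fun _ => prec_mul P x 0)
  have h4 : Algebra.trace K K' y = ∑ i, c.repr (y * c i) i := by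
    rw [Algebra.trace_eq_matrix_trace c, Matrix.trace]
    refine Finset.sum_congr rfl fun i _ => ?_
    rw [Matrix.diag_apply, Algebra.leftMulMatrix_eq_repr_mul]
  rw [← tres_aS hfr' T hTne, h1, h2, h4, pres_sum_left]
  refine Eq.trans ?_ h3.symm
  refine Finset.sum_congr rfl fun i _ => ?_
  rw [hentry]; rfl

end Ext

end K667.TateExt
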