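import Groth.Agent.FunFld.K667.TateRes

/-!
# Tate's abstract residue on finite products, and transport (helper667)
-/

set_option autoImplicit false

universe u v w

namespace K667.TatePi

open LinearMap Module Groth.Agent.CurvesB.FinTrace K667.Ptr K667.TateRes

variable {k : Type*} [Field k]

section Pi

variable {ι : Type*} [Fintype ι] {M : ι → Type*} [∀ i, AddCommGroup (M i)] [∀ i, Module k (M i)]

/-- The product of subspaces. -/
def piS (A : ∀ i, Submodule k (M i)) : Submodule k (∀ i, M i) := Submodule.pi Set.univ A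

theorem mem_piS {A : ∀ i, Submodule k (M i)} {x : ∀ i, M i} : x ∈ piS A ↔ ∀ i, x i ∈ A i := by
  simp [piS]

open scoped Classical in
theorem prec_piS {A : ∀ i, Submodule k (M i)} {f : (∀ i, M i) →ₗ[k] (∀ i, M i)}
    (hf : ∀ i j, Prec ((A j).map (LinearMap.proj i ∘ₗ f ∘ₗ LinearMap.single k M j)) (A i)) :
    Prec ((piS A).map f) (piS A) := by
  choose E hE hle using hf
  let EE : Submodule k (∀ i, M i) := ⨆ i, ⨆ j, (E i j).map (LinearMap.single k M i)
  have hEE : FiniteDimensional k EE := by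
    have : ∀ i, FiniteDimensional k (⨆ j, (E i j).map (LinearMap.single k M i) : Submodule k (∀ i, M i)) := by
      intro i
      have : ∀ j, FiniteDimensional k ((E i j).map (LinearMap.single k M i)) := fun j => by
        have := hE i j
        infer_instance
      exact Submodule.finiteDimensional_iSup _
    exact Submodule.finiteDimensional_iSup _
  refine ⟨EE, hEE, ?_⟩
  rintro _ ⟨x, hx, rfl⟩
  have h1 : f x = ∑ i, ∑ j, LinearMap.single k M i (f (LinearMap.single k M j (x j)) i) := by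
    have hxs : ∀ x : ∀ i, M i, x = ∑ j, LinearMap.single k M j (x j) := by
      intro x
      ext i
      rw [Finset.sum_apply, Finset.sum_eq_single i]
      · simp
      · intro b _ hb
        simp [Pi.single_eq_of_ne' hb]
      · intro hj; exact absurd (Finset.mem_univ i) hj
    have : f x = ∑ j, f (LinearMap.single k M j (x j)) := by
      conv_lhs => rw [hxs x]
      rw [map_sum]
    rw [this, Finset.sum_comm]
    exact Finset.sum_congr rfl fun j _ => hxs _
  rw [h1]
  refine sum_mem fun i _ => sum_mem fun j _ => ?_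
  have h2 := hle i j ⟨x j, mem_piS.1 hx j, rfl⟩
  obtain ⟨a, ha, e, he, hae⟩ := Submodule.mem_sup.1 h2
  have h3 : f (LinearMap.single k M j (x j)) i = a + e := hae.symm
  rw [h3, map_add]
  refine Submodule.add_mem_sup ?_ ?_
  · rw [mem_piS]
    intro l
    by_cases hl : l = i
    · subst hl; simpa using ha
    · have : (LinearMap.single k M i a : ∀ i, M i) l = 0 := by simp [Pi.single_eq_of_ne hl]
      rw [this]; exact zero_mem _
  · refine Submodule.mem_iSup_of_mem i (Submodule.mem_iSup_of_mem j ⟨e, he, rfl⟩)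

/-- Componentwise operators. -/
def piMap (g : ∀ i, M i →ₗ[k] M i) : (∀ i, M i) →ₗ[k] (∀ i, M i) :=
  LinearMap.pi fun i => g i ∘ₗ LinearMap.proj i

@[simp] theorem piMap_apply (g : ∀ i, M i →ₗ[k] M i) (x : ∀ i, M i) (i : ι) :
    piMap g x i = g i (x i) := rfl

open scoped Classical in
theorem prec_piMap {A : ∀ i, Submodule k (M i)} {g : ∀ i, M i →ₗ[k] M i}
    (hg : ∀ i, Prec ((A i).map (g i)) (A i)) : Prec ((piS A).map (piMap g)) (piS A) := by
  refine prec_piS fun i j => ?_
  by_cases hij : i = j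
  · subst hij
    refine (Prec.of_le ?_).trans (hg i)
    rintro _ ⟨x, hx, rfl⟩
    exact ⟨x, hx, by simp⟩
  · refine Prec.of_le ?_
    rintro _ ⟨x, hx, rfl⟩
    have : (LinearMap.proj i ∘ₗ piMap g ∘ₗ LinearMap.single k M j) x = 0 := by
      simp [Pi.single_eq_of_ne hij]
    rw [this]; exact zero_mem _

open scoped Classical in
/-- The trace of a matrix of operators. -/
theorem ptr_pi {A : ∀ i, Submodule k (M i)} {T : (∀ i, M i) →ₗ[k] (∀ i, M i)}
    (hT : E0 (piS A) T) :
    ptr T = ∑ i, ptr (LinearMap.proj i ∘ₗ T ∘ₗ LinearMap.single k M i) := by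
  have hs : ∀ i, Prec ((piS A).map (LinearMap.single k M i ∘ₗ LinearMap.proj i)) (piS A) := by
    intro i
    refine Prec.of_le ?_
    rintro _ ⟨x, hx, rfl⟩
    rw [mem_piS]
    intro l
    by_cases hl : l = i
    · subst hl; simpa using mem_piS.1 hx l
    · have : (LinearMap.single k M i ∘ₗ LinearMap.proj i : (∀ i, M i) →ₗ[k] ∀ i, M i) x l = 0 := by
        simp [Pi.single_eq_of_ne hl]
      rw [this]; exact zero_mem _
  have h1 : T = ∑ i, (LinearMap.single k M i ∘ₗ LinearMap.proj i) ∘ₗ T := by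
    ext1 j
    ext x l
    simp only [LinearMap.coe_comp, Function.comp_apply, LinearMap.sum_apply, Finset.sum_apply,
      LinearMap.proj_apply, LinearMap.single_apply]
    rw [Finset.sum_eq_single l]
    · simp
    · intro b _ hb
      rw [Pi.single_eq_of_ne' hb]
    · intro hj; exact absurd (Finset.mem_univ l) hj
  conv_lhs => rw [h1]
  rw [ptr_sum Finset.univ fun i _ => hT.comp_right (hs i)]
  refine Finset.sum_congr rfl fun i _ => ?_
  rw [LinearMap.comp_assoc]
  symm
  refine ptr_comm (LinearMap.single k M i) (LinearMap.proj i ∘ₗ T)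
    ((LinearMap.range T).map (LinearMap.proj i))
    ((LinearMap.range T).map (LinearMap.single k M i ∘ₗ LinearMap.proj i)) ?_ ?_ ?_
  · intro x; exact ⟨T x, ⟨x, rfl⟩, rfl⟩
  · rintro _ ⟨y, hy, rfl⟩
    exact ⟨y, hy, rfl⟩
  · exact (hT.2.prec ((hT.1.map _).trans (hs i))).comp_right _

open scoped Classical in
/-- The residue on a product, with `g` acting componentwise and `f` a matrix of operators. -/
theorem tres_pi (A : ∀ i, Submodule k (M i)) (f : (∀ i, M i) →ₗ[k] (∀ i, M i))
    (g : ∀ i, M i →ₗ[k] M i) (hfg : f ∘ₗ piMap g = piMap g ∘ₗ f)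
    (hf : ∀ i j, Prec ((A j).map (LinearMap.proj i ∘ₗ f ∘ₗ LinearMap.single k M j)) (A i))
    (hg : ∀ i, Prec ((A i).map (g i)) (A i)) :
    tres (piS A) f (piMap g) =
      ∑ i, tres (A i) (LinearMap.proj i ∘ₗ f ∘ₗ LinearMap.single k M i) (g i) := by
  choose P hP1 hP2 using fun i => exists_proj (A i)
  have hP : ∀ i, IsPar (A i) (P i) := fun i => IsPar.of_proj (hP1 i) (hP2 i)
  have hPP : IsPar (piS A) (piMap P) := by
    refine IsPar.of_proj (fun x => ?_) (fun x hx => ?_)
    · rw [mem_piS]; intro i; exact hP1 i _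
    · ext i; exact hP2 i _ (mem_piS.1 hx i)
  have hpf := prec_piS hf
  have hpg := prec_piMap hg
  rw [tres_eq hPP hpf hpg hfg, ptr_pi (hPP.E0_op hpf hpg)]
  refine Finset.sum_congr rfl fun i _ => ?_
  have hcomm : (LinearMap.proj i ∘ₗ f ∘ₗ LinearMap.single k M i) ∘ₗ g i =
      g i ∘ₗ (LinearMap.proj i ∘ₗ f ∘ₗ LinearMap.single k M i) := by
    ext x
    have h1 : LinearMap.single k M i (g i x) = piMap g (LinearMap.single k M i x) := by
      ext l
      by_cases hl : l = i
      · subst hl; simp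
      · simp [Pi.single_eq_of_ne hl]
    have h2 := LinearMap.congr_fun hfg (LinearMap.single k M i x)
    simp only [LinearMap.coe_comp, Function.comp_apply, LinearMap.proj_apply] at h2 ⊢
    rw [h1, h2]; rfl
  rw [tres_eq (hP i) (hf i i) (hg i) hcomm]
  congr 1

open scoped Classical in
/-- The residue on a product, both operators componentwise. -/
theorem tres_piMap (A : ∀ i, Submodule k (M i)) (f g : ∀ i, M i →ₗ[k] M i)
    (hfg : ∀ i, f i ∘ₗ g i = g i ∘ₗ f i)
    (hf : ∀ i, Prec ((A i).map (f i)) (A i))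
    (hg : ∀ i, Prec ((A i).map (g i)) (A i)) :
    tres (piS A) (piMap f) (piMap g) = ∑ i, tres (A i) (f i) (g i) := by
  rw [tres_pi A (piMap f) g _ _ hg]
  · refine Finset.sum_congr rfl fun i _ => ?_
    congr 1
    ext x
    simp
  · ext1 j
    ext x l
    by_cases hl : l = j
    · subst hl
      have := LinearMap.congr_fun (hfg l) x
      simpa using this
    · simp [Pi.single_eq_of_ne hl]
  · intro i j
    by_cases hij : i = j
    · subst hij
      refine (Prec.of_le ?_).trans (hf i)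
      rintro _ ⟨x, hx, rfl⟩
      exact ⟨x, hx, by simp⟩
    · refine Prec.of_le ?_
      rintro _ ⟨x, hx, rfl⟩
      have : (LinearMap.proj i ∘ₗ piMap f ∘ₗ LinearMap.single k M j) x = 0 := by
        simp [Pi.single_eq_of_ne hij]
      rw [this]; exact zero_mem _

end Pi

section Conj

variable {V W : Type*} [AddCommGroup V] [Module k V] [AddCommGroup W] [Module k W]

/-- Transport along a linear equivalence. -/
theorem tres_conj (e : V ≃ₗ[k] W) (A : Submodule k V) {f g : V →ₗ[k] V} {f' g' : W →ₗ[k] W}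
    (hf : Prec (A.map f) A) (hg : Prec (A.map g) A) (hfg : f ∘ₗ g = g ∘ₗ f)
    (hf' : ∀ x, e (f x) = f' (e x)) (hg' : ∀ x, e (g x) = g' (e x)) :
    tres A f g = tres (A.map (e : V →ₗ[k] W)) f' g' := by
  obtain ⟨P, hP1, hP2⟩ := exists_proj A
  have hP := IsPar.of_proj hP1 hP2
  let P' : W →ₗ[k] W := (e : V →ₗ[k] W) ∘ₗ P ∘ₗ (e.symm : W →ₗ[k] V)
  have hP' : IsPar (A.map (e : V →ₗ[k] W)) P' := by
    refine IsPar.of_proj (fun x => ⟨P (e.symm x), hP1 _, rfl⟩) ?_
    rintro _ ⟨x, hx, rfl⟩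
    change e (P (e.symm (e x))) = e x
    rw [e.symm_apply_apply, hP2 x hx]
  have key : ∀ {h : V →ₗ[k] V} {h' : W →ₗ[k] W}, (∀ x, e (h x) = h' (e x)) → Prec (A.map h) A →
      Prec ((A.map (e : V →ₗ[k] W)).map h') (A.map (e : V →ₗ[k] W)) := by
    intro h h' hh hA
    refine (Prec.of_le ?_).trans (hA.map (e : V →ₗ[k] W))
    rintro _ ⟨_, ⟨x, hx, rfl⟩, rfl⟩
    exact ⟨h x, ⟨x, hx, rfl⟩, hh x⟩
  have hfg' : f' ∘ₗ g' = g' ∘ₗ f' := by
    ext y
    obtain ⟨x, rfl⟩ := e.surjective y
    simp only [LinearMap.comp_apply]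
    rw [← hg', ← hf', ← hf', ← hg']
    exact congrArg e (LinearMap.congr_fun hfg x)
  rw [tres_eq hP hf hg hfg, tres_eq hP' (key hf' hf) (key hg' hg) hfg',
    ← ptr_conj e (hP.E0_op hf hg)]
  congr 1
  ext y
  obtain ⟨x, rfl⟩ := e.surjective y
  simp only [LinearMap.comp_apply, op_apply, LinearEquiv.coe_coe, LinearEquiv.symm_apply_apply]
  change e (P (g (f x)) - g (P (f x))) = e (P (e.symm (g' (f' (e x))))) -
    g' (e (P (e.symm (f' (e x)))))
  rw [← hf', ← hg', e.symm_apply_apply, e.symm_apply_apply, map_sub, hg']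

/-- Pull back along an injective map with stable range. -/
theorem tres_of_injective (j : W →ₗ[k] V) (hj : Function.Injective j) {A : Submodule k V}
    (hcov : Prec ⊤ (A ⊔ LinearMap.range j))
    {f g : V →ₗ[k] V} {f' g' : W →ₗ[k] W} (hf : Prec (A.map f) A) (hg : Prec (A.map g) A)
    (hfg : f ∘ₗ g = g ∘ₗ f) (hf' : ∀ x, j (f' x) = f (j x)) (hg' : ∀ x, j (g' x) = g (j x)) :
    tres A f g = tres (A.comap j) f' g' := by
  have hfW : ∀ x ∈ LinearMap.range j, f x ∈ LinearMap.range j := by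
    rintro _ ⟨y, rfl⟩; exact ⟨f' y, hf' y⟩
  have hgW : ∀ x ∈ LinearMap.range j, g x ∈ LinearMap.range j := by
    rintro _ ⟨y, rfl⟩; exact ⟨g' y, hg' y⟩
  rw [tres_cover (LinearMap.range j) hcov hf hg hfg hfW hgW]
  let e : LinearMap.range j ≃ₗ[k] W := (LinearEquiv.ofInjective j hj).symm
  have he : ∀ x : W, e ⟨j x, ⟨x, rfl⟩⟩ = x := fun x =>
    (LinearEquiv.ofInjective j hj).symm_apply_apply x
  have hA : (A.comap (LinearMap.range j).subtype).map (e : LinearMap.range j →ₗ[k] W) =
      A.comap j := by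
    ext x
    constructor
    · rintro ⟨⟨_, y, rfl⟩, hy, hyx⟩
      have : y = x := (he y).symm.trans hyx
      subst this
      exact hy
    · intro hx
      exact ⟨⟨j x, ⟨x, rfl⟩⟩, hx, he x⟩
  rw [← hA]
  refine tres_conj e _ (prec_comap hf hfW) (prec_comap hg hgW) ?_ ?_ ?_
  · ext x
    exact LinearMap.congr_fun hfg x
  · rintro ⟨_, y, rfl⟩
    rw [he]
    have : (f.restrict hfW ⟨j y, ⟨y, rfl⟩⟩ : LinearMap.range j) = ⟨j (f' y), ⟨f' y, rfl⟩⟩ :=
      Subtype.ext (hf' y).symm
    rw [this, he]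
  · rintro ⟨_, y, rfl⟩
    rw [he]
    have : (g.restrict hgW ⟨j y, ⟨y, rfl⟩⟩ : LinearMap.range j) = ⟨j (g' y), ⟨g' y, rfl⟩⟩ :=
      Subtype.ext (hg' y).symm
    rw [this, he]

end Conj

end K667.TatePi
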