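import Groth.Agent.FunFld.K667.DiffOrd
import Groth.Agent.FunFld.K667.TatePi
import Mathlib.Order.Interval.Finset.Defs
import Mathlib.Data.Int.Interval

/-!
# Tate's residue for Laurent series is the trace of the coefficient of `X⁻¹` (helper667)
-/

set_option autoImplicit false

universe u v w

namespace K667.TateLaurent

open LaurentSeries HahnSeries LinearMap Module Groth.Agent.CurvesB.FinTrace K667.Ptr K667.TateRes
  K667.TatePi K667.DiffOrd

section Coeff

variable {F : Type*} [Field F]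

/-- The coefficients of a product as sums over integer intervals. -/
theorem coeff_mul_Icc {f g : F⸨X⸩} {a b : ℤ} (hf : ∀ m : ℤ, m < a → f.coeff m = 0)
    (hg : ∀ m : ℤ, m < b → g.coeff m = 0) (n : ℤ) :
    (f * g).coeff n = ∑ m ∈ Finset.Icc a (n - b), f.coeff m * g.coeff (n - m) := by
  classical
  rw [HahnSeries.coeff_mul]
  have hinj : Set.InjOn Prod.fst
      (Finset.antidiagonal f.isPWO_support g.isPWO_support n : Set (ℤ × ℤ)) := by
    rintro ⟨i, j⟩ h ⟨i', j'⟩ h' hij
    have h1 := (Finset.mem_antidiagonal.1 (Finset.mem_coe.1 h)).2.2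
    have h2 := (Finset.mem_antidiagonal.1 (Finset.mem_coe.1 h')).2.2
    simp only at h1 h2 hij
    ext
    · exact hij
    · simp only; omega
  have h1 : ∑ ij ∈ Finset.antidiagonal f.isPWO_support g.isPWO_support n,
      f.coeff ij.1 * g.coeff ij.2 =
      ∑ m ∈ (Finset.antidiagonal f.isPWO_support g.isPWO_support n).image Prod.fst,
        f.coeff m * g.coeff (n - m) := by
    rw [Finset.sum_image hinj]
    refine Finset.sum_congr rfl fun ij h => ?_
    have h2 := (Finset.mem_antidiagonal.1 h).2.2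
    rw [show n - ij.1 = ij.2 by omega]
  rw [h1]
  refine Finset.sum_subset ?_ ?_
  · intro m hm
    obtain ⟨ij, h, rfl⟩ := Finset.mem_image.1 hm
    obtain ⟨h2, h3, h4⟩ := Finset.mem_antidiagonal.1 h
    rw [HahnSeries.mem_support] at h2 h3
    rw [Finset.mem_Icc]
    constructor
    · by_contra hc; exact h2 (hf _ (by omega))
    · by_contra hc; exact h3 (hg _ (by omega))
  · intro m _ hm
    by_contra hne
    apply hm
    refine Finset.mem_image.2 ⟨(m, n - m), Finset.mem_antidiagonal.2 ⟨?_, ?_, by simp⟩, rfl⟩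
    · exact left_ne_zero_of_mul hne
    · exact right_ne_zero_of_mul hne

theorem exists_bound (f : F⸨X⸩) : ∃ B : ℕ, ∀ m : ℤ, m < -(B : ℤ) → f.coeff m = 0 := by
  refine ⟨(-f.order).toNat, fun m hm => HahnSeries.coeff_eq_zero_of_lt_order ?_⟩
  omega

end Coeff

variable {k : Type u} {F : Type w} [Field k] [Field F] [Algebra k F]

theorem smul_eq_C_mul (c : k) (f : F⸨X⸩) : c • f = HahnSeries.C (algebraMap k F c) * f := by
  rw [HahnSeries.C_mul_eq_smul, algebraMap_smul]

variable (k) in
/-- Multiplication by `f` on Laurent series as a `k`-linear map. -/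
noncomputable def mulL (f : F⸨X⸩) : F⸨X⸩ →ₗ[k] F⸨X⸩ where
  toFun g := f * g
  map_add' g h := mul_add f g h
  map_smul' c g := by
    rw [smul_eq_C_mul, smul_eq_C_mul, RingHom.id_apply]; ring

@[simp] theorem mulL_apply (f g : F⸨X⸩) : mulL k f g = f * g := rfl

theorem mulL_comm (f g : F⸨X⸩) : mulL k f ∘ₗ mulL k g = mulL k g ∘ₗ mulL k f := by
  ext x : 1
  simp only [LinearMap.comp_apply, mulL_apply]; ring

variable (k F) in
/-- The lattice `X^{-n} F[[X]]`. -/
def lat (n : ℤ) : Submodule k F⸨X⸩ where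
  carrier := {f | ∀ m : ℤ, m < -n → f.coeff m = 0}
  add_mem' {f g} hf hg m hm := by rw [HahnSeries.coeff_add, hf m hm, hg m hm, add_zero]
  zero_mem' m _ := by simp
  smul_mem' c f hf m hm := by rw [HahnSeries.coeff_smul, hf m hm, smul_zero]

theorem mem_lat {n : ℤ} {f : F⸨X⸩} : f ∈ lat k F n ↔ ∀ m : ℤ, m < -n → f.coeff m = 0 := Iff.rfl

theorem mem_lat_iff_v {n : ℤ} {f : F⸨X⸩} : f ∈ lat k F n ↔ Valued.v f ≤ WithZero.exp n := by
  rw [mem_lat, v_le_exp_iff]

theorem mul_mem_lat {a b : ℤ} {f g : F⸨X⸩} (hf : f ∈ lat k F a) (hg : g ∈ lat k F b) :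
    f * g ∈ lat k F (a + b) := by
  rw [mem_lat_iff_v] at hf hg ⊢
  rw [map_mul, WithZero.exp_add]
  exact mul_le_mul' hf hg

theorem lat_mono {a b : ℤ} (h : a ≤ b) : lat k F a ≤ lat k F b := by
  intro f hf m hm
  exact hf m (by omega)

variable (k F) in
/-- The projection to the non-negative part. -/
noncomputable def pos : F⸨X⸩ →ₗ[k] F⸨X⸩ where
  toFun f := ((PowerSeries.mk fun n => f.coeff (n : ℤ) : PowerSeries F) : F⸨X⸩)
  map_add' f g := by
    ext n
    rw [HahnSeries.coeff_add, PowerSeries.coeff_coe, PowerSeries.coeff_coe, PowerSeries.coeff_coe]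
    split_ifs <;> simp
  map_smul' c f := by
    ext n
    rw [HahnSeries.coeff_smul, PowerSeries.coeff_coe, PowerSeries.coeff_coe]
    split_ifs <;> simp

theorem coeff_pos (f : F⸨X⸩) (n : ℤ) : (pos k F f).coeff n = if 0 ≤ n then f.coeff n else 0 := by
  change ((PowerSeries.mk fun n => f.coeff (n : ℤ) : PowerSeries F) : F⸨X⸩).coeff n = _
  rw [PowerSeries.coeff_coe]
  by_cases h : 0 ≤ n
  · rw [if_neg (by omega), if_pos h, PowerSeries.coeff_mk]
    congr 1
    omega
  · rw [if_pos (by omega), if_neg h]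

theorem pos_mem (f : F⸨X⸩) : pos k F f ∈ lat k F 0 := by
  intro m hm
  rw [coeff_pos, if_neg (by omega)]

theorem pos_eq {f : F⸨X⸩} (hf : f ∈ lat k F 0) : pos k F f = f := by
  ext n
  rw [coeff_pos]
  split_ifs with h
  · rfl
  · rw [hf n (by omega)]

/-- Truncation to finitely many coefficients. -/
noncomputable def trunc (J : Finset ℤ) : F⸨X⸩ →ₗ[k] (J → F) where
  toFun f i := f.coeff (i : ℤ)
  map_add' f g := by ext i; simp
  map_smul' c f := by ext i; simp

/-- The Laurent polynomial with given coefficients. -/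
noncomputable def untrunc (J : Finset ℤ) : (J → F) →ₗ[k] F⸨X⸩ where
  toFun c := ∑ i : J, HahnSeries.single (i : ℤ) (c i)
  map_add' c d := by
    rw [← Finset.sum_add_distrib]
    refine Finset.sum_congr rfl fun i _ => ?_
    rw [Pi.add_apply, HahnSeries.single_add]
  map_smul' r c := by
    rw [RingHom.id_apply, Finset.smul_sum]
    refine Finset.sum_congr rfl fun i _ => ?_
    rw [Pi.smul_apply]
    ext n
    rw [HahnSeries.coeff_smul]
    by_cases h : n = (i : ℤ)
    · rw [h, HahnSeries.coeff_single_same, HahnSeries.coeff_single_same]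
    · rw [HahnSeries.coeff_single_of_ne h, HahnSeries.coeff_single_of_ne h, smul_zero]

theorem coeff_untrunc (J : Finset ℤ) (c : J → F) (n : ℤ) :
    (untrunc (k := k) J c).coeff n = if h : n ∈ J then c ⟨n, h⟩ else 0 := by
  change (∑ i : J, HahnSeries.single (i : ℤ) (c i) : F⸨X⸩).coeff n = _
  rw [HahnSeries.coeff_sum]
  split_ifs with h
  · rw [Finset.sum_eq_single ⟨n, h⟩]
    · simp
    · intro b _ hb
      refine HahnSeries.coeff_single_of_ne fun h' => hb ?_
      exact Subtype.ext h'.symm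
    · intro h'; exact absurd (Finset.mem_univ _) h'
  · refine Finset.sum_eq_zero fun i _ => HahnSeries.coeff_single_of_ne fun h' => h ?_
    rw [h']; exact i.2

theorem prec_lat [FiniteDimensional k F] (a b : ℤ) : Prec (lat k F a) (lat k F b) := by
  let J : Finset ℤ := Finset.Ico (-a) (-b)
  refine ⟨LinearMap.range (untrunc (k := k) (F := F) J), inferInstance, fun f hf => ?_⟩
  have h1 : f = (f - untrunc (k := k) J (trunc (k := k) J f)) + untrunc (k := k) J (trunc (k := k) J f) := by
    abel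
  rw [h1]
  refine Submodule.add_mem_sup ?_ ⟨_, rfl⟩
  intro m hm
  rw [HahnSeries.coeff_sub, coeff_untrunc]
  split_ifs with h
  · change f.coeff m - f.coeff m = 0
    rw [sub_self]
  · rw [sub_zero]
    refine hf m ?_
    by_contra hc
    exact h (Finset.mem_Ico.2 ⟨by omega, hm⟩)

theorem prec_mulL [FiniteDimensional k F] (f : F⸨X⸩) (a : ℤ) :
    Prec ((lat k F a).map (mulL k f)) (lat k F a) := by
  obtain ⟨B, hB⟩ := exists_bound f
  refine (Prec.of_le ?_).trans (prec_lat (B + a) a)
  rintro _ ⟨g, hg, rfl⟩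
  exact mul_mem_lat (show f ∈ lat k F B from hB) hg

theorem isPar_pos : IsPar (lat k F 0) (pos k F) :=
  IsPar.of_proj (fun f => pos_mem f) (fun _ hf => pos_eq hf)

/-- Two operators with range in `L` that agree on `L` have the same trace. -/
theorem ptr_congr_on {V : Type*} [AddCommGroup V] [Module k V] {S T : V →ₗ[k] V}
    (L : Submodule k V) (hS : ∀ x, S x ∈ L) (hT : ∀ x, T x ∈ L) (h : ∀ x ∈ L, S x = T x)
    (hfr : FROn T L) : ptr S = ptr T := by
  have hfr' : FROn S L := by
    have : S ∘ₗ L.subtype = T ∘ₗ L.subtype := by ext x; exact h x x.2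
    rw [FROn, this]; exact hfr
  rw [ptr_eq S L hS hfr', ptr_eq T L hT hfr]
  congr 1
  ext x
  exact h x x.2

/-- Counting lemma. -/
theorem sum_count {F : Type*} [Ring F] {N M B : ℤ} (hN : B ≤ N) (hM : B ≤ M) (hM0 : 0 ≤ M)
    (hN0 : 0 ≤ N) {l : ℤ} (h1 : -B ≤ l) (h2 : l ≤ B) :
    ∑ i ∈ Finset.Ico (-N) M, ((if 0 ≤ i then (1 : F) else 0) - (if 0 ≤ i + l then 1 else 0)) =
      ((-l : ℤ) : F) := by
  rw [Finset.sum_sub_distrib, Finset.sum_ite, Finset.sum_ite]
  simp only [Finset.sum_const_zero, add_zero, Finset.sum_const, nsmul_eq_mul, mul_one]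
  have e1 : (Finset.Ico (-N) M).filter (fun i => 0 ≤ i) = Finset.Ico 0 M := by
    ext i; simp only [Finset.mem_filter, Finset.mem_Ico]; omega
  have e2 : (Finset.Ico (-N) M).filter (fun i => 0 ≤ i + l) = Finset.Ico (-l) M := by
    ext i; simp only [Finset.mem_filter, Finset.mem_Ico]; omega
  have c1 : ((M - 0).toNat : F) = ((M - 0 : ℤ) : F) := by
    rw [← Int.cast_natCast, Int.toNat_of_nonneg (by omega)]
  have c2 : ((M - -l).toNat : F) = ((M - -l : ℤ) : F) := by
    rw [← Int.cast_natCast, Int.toNat_of_nonneg (by omega)]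
  rw [e1, e2, Int.card_Ico, Int.card_Ico, c1, c2, ← Int.cast_sub]
  congr 1
  ring

/-- The trace of an operator on Laurent series that is "diagonalisable by coefficients" on a finite
window. -/
theorem ptr_window [FiniteDimensional k F] (T : F⸨X⸩ →ₗ[k] F⸨X⸩) (N : ℤ)
    (hrange : ∀ x, T x ∈ lat k F N) (hker : ∀ x ∈ lat k F (-N), T x = 0) (hE0 : E0 (lat k F 0) T)
    (t : ℤ → F) (hdiag : ∀ i ∈ Finset.Ico (-N) N, ∀ c : F,
      (T (HahnSeries.single i c)).coeff i = t i * c) :
    ptr T = Algebra.trace k F (∑ i ∈ Finset.Ico (-N) N, t i) := by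
  classical
  obtain ⟨J, hJ⟩ : ∃ J : Finset ℤ, J = Finset.Ico (-N) N := ⟨_, rfl⟩
  have hsub : ∀ x ∈ lat k F N, x - untrunc (k := k) J (trunc (k := k) J x) ∈ lat k F (-N) := by
    intro x hx m hm
    rw [HahnSeries.coeff_sub, coeff_untrunc]
    split_ifs with h
    · change x.coeff m - x.coeff m = 0
      rw [sub_self]
    · rw [sub_zero]
      refine hx m ?_
      by_contra hc
      exact h (by rw [hJ, Finset.mem_Ico]; exact ⟨by omega, by omega⟩)
  -- factor through the finite-dimensional space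
  obtain ⟨S, hS⟩ : ∃ S : (J → F) →ₗ[k] F⸨X⸩, S = T ∘ₗ untrunc (k := k) J := ⟨_, rfl⟩
  have hSx : ∀ c, S c = T (untrunc (k := k) J c) := fun c => by rw [hS]; rfl
  have hSr : ∀ x, (S ∘ₗ trunc (k := k) J) x ∈ lat k F N := by
    intro x
    rw [LinearMap.comp_apply, hSx]
    exact hrange _
  have hST : ∀ x ∈ lat k F N, T x = (S ∘ₗ trunc (k := k) J) x := by
    intro x hx
    have h1 := hker _ (hsub x hx)
    rw [map_sub, sub_eq_zero] at h1
    rw [LinearMap.comp_apply, hSx, h1]
  have hfrS : FR S := FR.of_source S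
  have step1 : ptr T = ptr (S ∘ₗ trunc (k := k) J) := by
    have hfr : FR (S ∘ₗ trunc (k := k) J) := hfrS.comp_left _
    exact ptr_congr_on (lat k F N) hrange hSr hST (FROn.of_FR hfr _)
  have step2 : ptr (S ∘ₗ trunc (k := k) J) = ptr (trunc (k := k) J ∘ₗ S) :=
    ptr_comm (V := F⸨X⸩) (W := J → F) (trunc (k := k) J) S ⊤ ⊤
      (fun _ => Submodule.mem_top) (fun _ _ => Submodule.mem_top) (FROn.of_FR hfrS ⊤)
  obtain ⟨U, hU⟩ : ∃ U : (J → F) →ₗ[k] (J → F), U = trunc (k := k) J ∘ₗ S := ⟨_, rfl⟩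
  rw [step1, step2, ← hU]
  have hfr2 : FR U := FR.of_source U
  have hE : E0 (piS fun _ : J => (⊤ : Submodule k F)) U := E0.of_FR hfr2
  rw [ptr_pi hE]
  have hd : ∀ (dec : DecidableEq J) (i : J),
      ptr (LinearMap.proj i ∘ₗ U ∘ₗ @LinearMap.single k J _ (fun _ : J => F) _ _ dec i) =
      Algebra.trace k F (t i) := by
    intro dec i
    obtain rfl : dec = (fun a b => a.instDecidableEq b) := Subsingleton.elim _ _
    rw [ptr_eq_trace, Algebra.trace_apply]
    congr 1
    ext c
    have e0 : untrunc (k := k) J (LinearMap.single k (fun _ : J => F) i c) =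
        HahnSeries.single (i : ℤ) c := by
      change (∑ j : J, HahnSeries.single (j : ℤ) ((Pi.single i c : J → F) j) : F⸨X⸩) = _
      rw [Finset.sum_eq_single i]
      · rw [Pi.single_eq_same]
      · intro b _ hb
        rw [Pi.single_eq_of_ne hb]; simp
      · intro h'; exact absurd (Finset.mem_univ _) h'
    have e1 : (LinearMap.proj i ∘ₗ U ∘ₗ LinearMap.single k (fun _ : J => F) i) c =
        (T (untrunc (k := k) J (LinearMap.single k (fun _ : J => F) i c))).coeff (i : ℤ) := by
      rw [← hSx, hU]; rfl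
    rw [e1, e0, hdiag i (by rw [← hJ]; exact i.2) c]
    rfl
  trans ∑ i : J, Algebra.trace k F (t i)
  · refine Finset.sum_congr rfl fun i _ => ?_
    exact hd _ i
  rw [← map_sum, ← hJ]
  congr 1
  exact Finset.sum_coe_sort J t

/-- **Tate's residue on Laurent series.** -/
theorem tres_laurent [FiniteDimensional k F] (f g : F⸨X⸩) :
    tres (lat k F 0) (mulL k f) (mulL k g) =
      Algebra.trace k F ((f * LocRes.D F g).coeff (-1)) := by
  classical
  obtain ⟨B₁, hB₁⟩ := exists_bound f
  obtain ⟨B₂, hB₂⟩ := exists_bound g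
  obtain ⟨B, hBdef⟩ : ∃ B : ℤ, B = (B₁ : ℤ) + B₂ := ⟨_, rfl⟩
  have hB0 : 0 ≤ B := by omega
  have hf : ∀ m : ℤ, m < -B → f.coeff m = 0 := fun m hm => hB₁ m (by omega)
  have hg : ∀ m : ℤ, m < -B → g.coeff m = 0 := fun m hm => hB₂ m (by omega)
  have hfB : f ∈ lat k F B := hf
  have hgB : g ∈ lat k F B := hg
  rw [tres_eq isPar_pos (prec_mulL f 0) (prec_mulL g 0) (mulL_comm f g)]
  have hE0 : E0 (lat k F 0) (op (pos k F) (mulL k f) (mulL k g)) :=
    isPar_pos.E0_op (prec_mulL f 0) (prec_mulL g 0)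
  obtain ⟨T, hT⟩ : ∃ T, T = op (pos k F) (mulL k f) (mulL k g) := ⟨_, rfl⟩
  rw [← hT] at hE0 ⊢
  have hTx : ∀ x, T x = pos k F (g * (f * x)) - g * pos k F (f * x) := fun x => by rw [hT]; rfl
  have hrange : ∀ x, T x ∈ lat k F (2 * B) := by
    intro x
    rw [hTx]
    refine Submodule.sub_mem _ (lat_mono (by omega) (pos_mem _)) ?_
    have := mul_mem_lat (k := k) hgB (pos_mem (k := k) (f * x))
    exact lat_mono (by omega) this
  have hker : ∀ x ∈ lat k F (-(2 * B)), T x = 0 := by
    intro x hx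
    have h1 : f * x ∈ lat k F 0 := lat_mono (by omega) (mul_mem_lat hfB hx)
    have h2 : g * (f * x) ∈ lat k F 0 := by
      have := mul_mem_lat hgB (mul_mem_lat hfB hx)
      exact lat_mono (by omega) this
    rw [hTx, pos_eq h1, pos_eq h2, sub_self]
  -- the diagonal entries
  let u : ℤ → F := fun l => f.coeff l * g.coeff (-l)
  let t : ℤ → F := fun i => ∑ l ∈ Finset.Icc (-B) B,
    u l * ((if 0 ≤ i then (1 : F) else 0) - (if 0 ≤ i + l then 1 else 0))
  have hdiag : ∀ i ∈ Finset.Ico (-(2 * B)) (2 * B), ∀ c : F,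
      (T (HahnSeries.single i c)).coeff i = t i * c := by
    intro i _ c
    rw [hTx, HahnSeries.coeff_sub, coeff_pos]
    -- first term
    have e1 : (g * (f * HahnSeries.single (i : ℤ) c)).coeff (i : ℤ) =
        (∑ l ∈ Finset.Icc (-B) B, u l) * c := by
      rw [← mul_assoc]
      have h1 : (g * f * HahnSeries.single (i : ℤ) c).coeff (i : ℤ) = (g * f).coeff 0 * c := by
        rw [HahnSeries.coeff_mul_single, sub_self]
      rw [h1, mul_comm g f, coeff_mul_Icc hf hg 0]
      congr 1
      rw [show (0 : ℤ) - -B = B by ring]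
      refine Finset.sum_congr rfl fun l _ => ?_
      rw [zero_sub]
    -- second term
    have e2 : (g * pos k F (f * HahnSeries.single (i : ℤ) c)).coeff (i : ℤ) =
        (∑ l ∈ Finset.Icc (-B) B, u l * (if 0 ≤ (i : ℤ) + l then 1 else 0)) * c := by
      have hcoef : ∀ m : ℤ, (pos k F (f * HahnSeries.single (i : ℤ) c)).coeff m =
          if 0 ≤ m then f.coeff (m - i) * c else 0 := by
        intro m
        rw [coeff_pos]
        split_ifs
        · rw [HahnSeries.coeff_mul_single]
        · rfl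
      have hlow : ∀ m : ℤ, m < (i : ℤ) - B →
          (pos k F (f * HahnSeries.single (i : ℤ) c)).coeff m = 0 := by
        intro m hm
        rw [hcoef]
        split_ifs
        · rw [hf _ (by omega), zero_mul]
        · rfl
      rw [mul_comm, coeff_mul_Icc hlow hg]
      rw [show (i : ℤ) - -B = i + B by ring]
      rw [Finset.sum_mul]
      refine Finset.sum_nbij' (fun m => m - i) (fun l => i + l) ?_ ?_ ?_ ?_ ?_
      · intro m hm; rw [Finset.mem_Icc] at hm ⊢; omega
      · intro l hl; rw [Finset.mem_Icc] at hl ⊢; omega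
      · intro m _; ring
      · intro l _; ring
      · intro m _
        rw [hcoef, show (i : ℤ) + (m - i) = m by ring]
        split_ifs
        · change f.coeff (m - i) * c * g.coeff (i - m) = f.coeff (m - i) * g.coeff (-(m - i)) * 1 * c
          rw [neg_sub]; ring
        · ring
    rw [e1, e2]
    change _ = (∑ l ∈ Finset.Icc (-B) B,
      u l * ((if 0 ≤ (i : ℤ) then (1 : F) else 0) - (if 0 ≤ (i : ℤ) + l then 1 else 0))) * c
    simp only [mul_sub]
    rw [Finset.sum_sub_distrib, sub_mul]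
    congr 1
    split_ifs <;> simp
  rw [ptr_window T (2 * B) hrange hker hE0 t hdiag]
  congr 1
  change ∑ i ∈ Finset.Ico (-(2 * B)) (2 * B), ∑ l ∈ Finset.Icc (-B) B,
    u l * ((if 0 ≤ i then (1 : F) else 0) - (if 0 ≤ i + l then 1 else 0)) = _
  rw [Finset.sum_comm]
  have hDg : ∀ m : ℤ, m < -B - 1 → (LocRes.D F g).coeff m = 0 := by
    intro m hm
    rw [LocRes.D_coeff, hg _ (by omega), smul_zero]
  rw [coeff_mul_Icc hf hDg, show (-1 : ℤ) - (-B - 1) = B by ring]
  refine Finset.sum_congr rfl fun l hl => ?_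
  rw [Finset.mem_Icc] at hl
  rw [← Finset.mul_sum, sum_count (B := B) (by omega) (by omega) (by omega) (by omega) hl.1 hl.2,
    LocRes.D_coeff, show (-1 : ℤ) - l + 1 = -l by ring, zsmul_eq_mul]
  change f.coeff l * g.coeff (-l) * _ = _
  ring

end K667.TateLaurent
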