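import Groth.Agent.FunFld.K667.Ptr
import Mathlib.LinearAlgebra.Projection
import Mathlib.LinearAlgebra.Pi

/-!
# Tate's abstract residue (helper667)

For commuting endomorphisms `f, g` of a vector space `V` and a subspace `A` with `f A ≺ A`, `g A ≺ A`,
`tres A f g = Tr ([P, g] f)` for any projection `P` onto `A`.
-/

set_option autoImplicit false

universe u v w

namespace K667.TateRes

open LinearMap Module Groth.Agent.CurvesB.FinTrace K667.Ptr

variable {k : Type*} [Field k]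
variable {V W : Type*} [AddCommGroup V] [Module k V] [AddCommGroup W] [Module k W]

/-- A parametrix of `A`: range almost in `A` and almost the identity on `A`. -/
def IsPar (A : Submodule k V) (P : V →ₗ[k] V) : Prop :=
  Prec (LinearMap.range P) A ∧ FROn (P - LinearMap.id) A

theorem IsPar.of_proj {A : Submodule k V} {P : V →ₗ[k] V} (h1 : ∀ x, P x ∈ A)
    (h2 : ∀ x ∈ A, P x = x) : IsPar A P := by
  refine ⟨Prec.of_le ?_, FROn.of_forall_mem ⊥ fun x hx => ?_⟩
  · rintro _ ⟨x, rfl⟩; exact h1 x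
  · simp [h2 x hx]

theorem exists_proj (A : Submodule k V) :
    ∃ P : V →ₗ[k] V, (∀ x, P x ∈ A) ∧ ∀ x ∈ A, P x = x := by
  obtain ⟨B, hB⟩ := Submodule.exists_isCompl A
  exact ⟨A.projection B hB, fun x => Submodule.projection_apply_mem _ x,
    fun x hx => Submodule.projection_apply_of_mem_left _ hx⟩

/-- The operator `[P, g] f`. -/
def op (P f g : V →ₗ[k] V) : V →ₗ[k] V := (P ∘ₗ g - g ∘ₗ P) ∘ₗ f

theorem op_apply (P f g : V →ₗ[k] V) (x : V) : op P f g x = P (g (f x)) - g (P (f x)) := rfl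

theorem IsPar.E0_brk {A : Submodule k V} {P : V →ₗ[k] V} (hP : IsPar A P) {g : V →ₗ[k] V}
    (hg : Prec (A.map g) A) : E0 A (P ∘ₗ g - g ∘ₗ P) := by
  refine ⟨?_, ?_⟩
  · refine (Prec.of_le (B := LinearMap.range P ⊔ (LinearMap.range P).map g) ?_).trans
      (hP.1.sup ((hP.1.map g).trans hg))
    rintro _ ⟨x, rfl⟩
    exact Submodule.sub_mem _ (Submodule.mem_sup_left ⟨g x, rfl⟩)
      (Submodule.mem_sup_right ⟨P x, ⟨x, rfl⟩, rfl⟩)
  · have e : P ∘ₗ g - g ∘ₗ P = (P - LinearMap.id) ∘ₗ g - g ∘ₗ (P - LinearMap.id) := by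
      ext x; simp
    rw [e]
    exact (hP.2.comp_left hg).sub (hP.2.comp_right g)

theorem IsPar.E0_op {A : Submodule k V} {P : V →ₗ[k] V} (hP : IsPar A P) {f g : V →ₗ[k] V}
    (hf : Prec (A.map f) A) (hg : Prec (A.map g) A) : E0 A (op P f g) :=
  (hP.E0_brk hg).comp_left hf

/-- Independence of the parametrix. -/
theorem ptr_op_congr {A : Submodule k V} {P P' : V →ₗ[k] V} (hP : IsPar A P) (hP' : IsPar A P')
    {f g : V →ₗ[k] V} (hf : Prec (A.map f) A) (hg : Prec (A.map g) A) (hfg : f ∘ₗ g = g ∘ₗ f) :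
    ptr (op P f g) = ptr (op P' f g) := by
  have hδ : E0 A (P - P') := by
    refine ⟨?_, ?_⟩
    · refine (Prec.of_le (B := LinearMap.range P ⊔ LinearMap.range P') ?_).trans (hP.1.sup hP'.1)
      rintro _ ⟨x, rfl⟩
      exact Submodule.sub_mem _ (Submodule.mem_sup_left ⟨x, rfl⟩) (Submodule.mem_sup_right ⟨x, rfl⟩)
    · have e : P - P' = (P - LinearMap.id) - (P' - LinearMap.id) := by abel
      rw [e]; exact hP.2.sub hP'.2
  have h1 : op P f g - op P' f g = ((P - P') ∘ₗ f) ∘ₗ g - g ∘ₗ ((P - P') ∘ₗ f) := by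
    ext x
    have := LinearMap.congr_fun hfg x
    simp only [LinearMap.comp_apply] at this
    simp only [LinearMap.sub_apply, LinearMap.comp_apply, op_apply, this, map_sub]
    abel
  have hS : E0 A ((P - P') ∘ₗ f) := hδ.comp_left hf
  have h2 : ptr (op P f g) - ptr (op P' f g) = 0 := by
    rw [← ptr_sub (hP.E0_op hf hg) (hP'.E0_op hf hg), h1,
      ptr_sub (hS.comp_left hg) (hS.comp_right hg), ptr_comm_E0 hS hg, sub_self]
  exact sub_eq_zero.1 h2

/-- Tate's abstract residue of `f dg` with respect to `A`. -/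
noncomputable def tres (A : Submodule k V) (f g : V →ₗ[k] V) : k :=
  ptr (op (exists_proj A).choose f g)

theorem tres_eq {A : Submodule k V} {P : V →ₗ[k] V} (hP : IsPar A P)
    {f g : V →ₗ[k] V} (hf : Prec (A.map f) A) (hg : Prec (A.map g) A) (hfg : f ∘ₗ g = g ∘ₗ f) :
    tres A f g = ptr (op P f g) :=
  ptr_op_congr (IsPar.of_proj (exists_proj A).choose_spec.1 (exists_proj A).choose_spec.2) hP
    hf hg hfg

theorem IsPar.congr {A B : Submodule k V} (h : Prec A B) (h' : Prec B A) {P : V →ₗ[k] V}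
    (hP : IsPar A P) : IsPar B P :=
  ⟨hP.1.trans h, hP.2.prec h'⟩

theorem prec_map_congr {A B : Submodule k V} (h : Prec A B) (h' : Prec B A) {f : V →ₗ[k] V}
    (hf : Prec (A.map f) A) : Prec (B.map f) B :=
  ((h'.map f).trans hf).trans h

/-- Commensurable subspaces give the same residue. -/
theorem tres_congr {A B : Submodule k V} (h : Prec A B) (h' : Prec B A)
    {f g : V →ₗ[k] V} (hf : Prec (A.map f) A) (hg : Prec (A.map g) A) (hfg : f ∘ₗ g = g ∘ₗ f) :
    tres A f g = tres B f g := by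
  obtain ⟨P, h1, h2⟩ := exists_proj A
  have hP := IsPar.of_proj h1 h2
  rw [tres_eq hP hf hg hfg,
    tres_eq (hP.congr h h') (prec_map_congr h h' hf) (prec_map_congr h h' hg) hfg]

theorem tres_add_left {A : Submodule k V} {f f' g : V →ₗ[k] V} (hf : Prec (A.map f) A)
    (hf' : Prec (A.map f') A) (hg : Prec (A.map g) A) :
    tres A (f + f') g = tres A f g + tres A f' g := by
  have hP := IsPar.of_proj (exists_proj A).choose_spec.1 (exists_proj A).choose_spec.2
  rw [tres, tres, tres, ← ptr_add (hP.E0_op hf hg) (hP.E0_op hf' hg)]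
  congr 1
  rw [op, op, op, LinearMap.comp_add]

theorem tres_zero_left (A : Submodule k V) (g : V →ₗ[k] V) : tres A 0 g = 0 := by
  rw [tres, op, LinearMap.comp_zero, ptr_zero]

theorem prec_map_sum {ι : Type*} (s : Finset ι) {A : Submodule k V} {f : ι → V →ₗ[k] V}
    (hf : ∀ i ∈ s, Prec (A.map (f i)) A) : Prec (A.map (∑ i ∈ s, f i)) A := by
  classical
  induction s using Finset.induction_on with
  | empty =>
    refine Prec.of_le ?_
    rintro _ ⟨x, -, rfl⟩
    simp
  | insert a s ha ih =>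
    have h1 := (hf a (Finset.mem_insert_self a s)).sup
      (ih fun i hi => hf i (Finset.mem_insert_of_mem hi))
    refine (Prec.of_le ?_).trans h1
    rintro _ ⟨x, hx, rfl⟩
    rw [Finset.sum_insert ha, LinearMap.add_apply]
    exact Submodule.add_mem_sup ⟨x, hx, rfl⟩ ⟨x, hx, rfl⟩

theorem tres_sum_left {ι : Type*} (s : Finset ι) {A : Submodule k V} {f : ι → V →ₗ[k] V}
    {g : V →ₗ[k] V} (hf : ∀ i ∈ s, Prec (A.map (f i)) A) (hg : Prec (A.map g) A) :
    tres A (∑ i ∈ s, f i) g = ∑ i ∈ s, tres A (f i) g := by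
  classical
  induction s using Finset.induction_on with
  | empty => simpa using tres_zero_left A g
  | insert a s ha ih =>
    rw [Finset.sum_insert ha, Finset.sum_insert ha, tres_add_left (hf a (Finset.mem_insert_self a s))
      (prec_map_sum s fun i hi => hf i (Finset.mem_insert_of_mem hi)) hg,
      ih fun i hi => hf i (Finset.mem_insert_of_mem hi)]

/-- If `A` is stable under `f` and `g`, the residue is zero. -/
theorem tres_eq_zero_of_stable {A : Submodule k V} {f g : V →ₗ[k] V} (hf : ∀ x ∈ A, f x ∈ A)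
    (hg : ∀ x ∈ A, g x ∈ A) : tres A f g = 0 := by
  obtain ⟨h1, h2⟩ := (exists_proj A).choose_spec
  set P := (exists_proj A).choose with hP
  have hz : ∀ x ∈ A, op P f g x = 0 := fun x hx => by
    rw [op_apply, h2 _ (hg _ (hf _ hx)), h2 _ (hf _ hx), sub_self]
  have hr : ∀ x, op P f g x ∈ A := fun x => A.sub_mem (h1 _) (hg _ (h1 _))
  rw [tres, ← hP, ptr_eq _ A hr (FROn.of_forall_mem ⊥ fun x hx => by simp [hz x hx])]
  have : (op P f g).restrict (p := A) (q := A) (fun x _ => hr x) = 0 := by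
    ext x
    simp [hz x x.2]
  rw [this, ftr_zero]

/-- For finite-dimensional `A` the residue is zero. -/
theorem tres_eq_zero_of_finite {A : Submodule k V} (hA : FiniteDimensional k A)
    {f g : V →ₗ[k] V} (hfg : f ∘ₗ g = g ∘ₗ f) : tres A f g = 0 := by
  have hP : IsPar A (0 : V →ₗ[k] V) :=
    ⟨Prec.of_le (by rw [LinearMap.range_zero]; exact bot_le), FROn.of_finite inferInstance⟩
  rw [tres_eq hP (Prec.of_finite inferInstance A) (Prec.of_finite inferInstance A) hfg]
  have : op 0 f g = 0 := by ext x; simp [op_apply]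
  rw [this, ptr_zero]

/-- For `A` of finite codimension the residue is zero. -/
theorem tres_eq_zero_of_top {A : Submodule k V} (hA : Prec ⊤ A)
    {f g : V →ₗ[k] V} (hfg : f ∘ₗ g = g ∘ₗ f) : tres A f g = 0 := by
  have hP : IsPar A (LinearMap.id : V →ₗ[k] V) :=
    ⟨(Prec.of_le le_top).trans hA, by rw [sub_self]; exact FROn.of_FR FR.zero A⟩
  have h1 : ∀ f : V →ₗ[k] V, Prec (A.map f) A := fun f => (Prec.of_le le_top).trans hA
  rw [tres_eq hP (h1 f) (h1 g) hfg]
  have : op LinearMap.id f g = 0 := by ext x; simp [op_apply]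
  rw [this, ptr_zero]

/-- Projections adapted to `W` when `A + W` has finite codimension. -/
theorem exists_cover_proj (A W : Submodule k V) (h : Prec ⊤ (A ⊔ W)) :
    ∃ P S : V →ₗ[k] V, (∀ x, P x ∈ A) ∧ (∀ x ∈ A, P x = x) ∧ (∀ x ∈ W, P x ∈ W) ∧ FR S ∧
      (∀ x ∈ W, S x = 0) ∧ ∀ x, x - P x - S x ∈ W := by
  obtain ⟨q, hq⟩ := Submodule.exists_isCompl (A.comap W.subtype)
  let C : Submodule k V := q.map W.subtype
  have hCW : C ≤ W := by rintro _ ⟨x, -, rfl⟩; exact x.2
  have hAC : A ⊓ C = ⊥ := by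
    rw [eq_bot_iff]
    rintro _ ⟨hxA, x, hx, rfl⟩
    have hx0 : x ∈ A.comap W.subtype ⊓ q := ⟨hxA, hx⟩
    rw [hq.inf_eq_bot, Submodule.mem_bot] at hx0
    rw [hx0]; simp
  have hsplit : ∀ x ∈ W, ∃ a ∈ A, a ∈ W ∧ ∃ c ∈ C, a + c = x := by
    intro x hx
    have h1 : (⟨x, hx⟩ : W) ∈ A.comap W.subtype ⊔ q := by rw [hq.sup_eq_top]; trivial
    obtain ⟨a, ha, c, hc, hac⟩ := Submodule.mem_sup.1 h1
    exact ⟨a, ha, a.2, c, ⟨c, hc, rfl⟩, congrArg Subtype.val hac⟩
  have hACW : A ⊔ C = A ⊔ W := by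
    apply le_antisymm (sup_le_sup_left hCW A)
    refine sup_le le_sup_left fun x hx => ?_
    obtain ⟨a, ha, -, c, hc, rfl⟩ := hsplit x hx
    exact Submodule.add_mem_sup ha hc
  obtain ⟨D, hD⟩ := Submodule.exists_isCompl (A ⊔ C)
  have hDfin : FiniteDimensional k D := by
    obtain ⟨E, hE, hle⟩ := h
    rw [← hACW] at hle
    let r : E →ₗ[k] (V ⧸ (A ⊔ C)) := (A ⊔ C).mkQ ∘ₗ E.subtype
    have hr : Function.Surjective r := by
      intro y
      obtain ⟨x, rfl⟩ := Submodule.mkQ_surjective _ y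
      obtain ⟨a, ha, e, he, rfl⟩ := Submodule.mem_sup.1 (hle (Submodule.mem_top (x := x)))
      refine ⟨⟨e, he⟩, ?_⟩
      change (A ⊔ C).mkQ e = (A ⊔ C).mkQ (a + e)
      rw [map_add, (Submodule.Quotient.mk_eq_zero (A ⊔ C)).2 ha |> fun h => (show (A ⊔ C).mkQ a = 0 from h),
        zero_add]
    have : FiniteDimensional k (V ⧸ (A ⊔ C)) := Module.Finite.of_surjective r hr
    exact Module.Finite.equiv (Submodule.quotientEquivOfIsCompl _ _ hD)
  have hcompl : IsCompl A (C ⊔ D) := by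
    constructor
    · rw [Submodule.disjoint_def]
      intro x hxA hx
      obtain ⟨c, hc, d, hd, rfl⟩ := Submodule.mem_sup.1 hx
      have h2 : d ∈ (A ⊔ C) ⊓ D := by
        refine ⟨?_, hd⟩
        have : d = (c + d) - c := by abel
        rw [this]
        exact Submodule.sub_mem _ (Submodule.mem_sup_left hxA) (Submodule.mem_sup_right hc)
      rw [hD.inf_eq_bot, Submodule.mem_bot] at h2
      subst h2
      rw [add_zero] at hxA ⊢
      have h3 : c ∈ A ⊓ C := ⟨hxA, hc⟩
      rwa [hAC, Submodule.mem_bot] at h3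
    · rw [codisjoint_iff, ← sup_assoc, hD.sup_eq_top]
  let P := A.projection (C ⊔ D) hcompl
  let S := D.projection (A ⊔ C) hD.symm
  have hP0 : ∀ x ∈ C ⊔ D, P x = 0 := fun x hx => (Submodule.projection_apply_eq_zero_iff hcompl).2 hx
  have hP1 : ∀ x ∈ A, P x = x := fun x hx => Submodule.projection_apply_of_mem_left _ hx
  have hS0 : ∀ x ∈ A ⊔ C, S x = 0 := fun x hx => (Submodule.projection_apply_eq_zero_iff hD.symm).2 hx
  have hS1 : ∀ x ∈ D, S x = x := fun x hx => Submodule.projection_apply_of_mem_left _ hx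
  refine ⟨P, S, fun x => Submodule.projection_apply_mem _ x, hP1, ?_, ?_, ?_, ?_⟩
  · intro x hx
    obtain ⟨a, ha, haW, c, hc, rfl⟩ := hsplit x hx
    rw [map_add, hP1 a ha, hP0 c (Submodule.mem_sup_left hc), add_zero]
    exact haW
  · exact FR.of_forall_mem D fun x => Submodule.projection_apply_mem _ x
  · intro x hx
    exact hS0 x (hACW ▸ Submodule.mem_sup_right hx)
  · intro x
    obtain ⟨y, hy, d, hd, rfl⟩ := Submodule.mem_sup.1
      (show x ∈ (A ⊔ C) ⊔ D by rw [hD.sup_eq_top]; trivial)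
    obtain ⟨a, ha, c, hc, rfl⟩ := Submodule.mem_sup.1 hy
    have e1 : P (a + c + d) = a := by
      rw [map_add, map_add, hP1 a ha, hP0 c (Submodule.mem_sup_left hc),
        hP0 d (Submodule.mem_sup_right hd), add_zero, add_zero]
    have e2 : S (a + c + d) = d := by
      rw [map_add, hS0 _ hy, hS1 d hd, zero_add]
    rw [e1, e2]
    have : a + c + d - a - d = c := by abel
    rw [this]
    exact hCW hc

theorem prec_comap {A W : Submodule k V} {f : V →ₗ[k] V} (hf : Prec (A.map f) A)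
    (hfW : ∀ x ∈ W, f x ∈ W) :
    Prec ((A.comap W.subtype).map (f.restrict hfW)) (A.comap W.subtype) := by
  obtain ⟨E, hE, hle⟩ := hf
  -- a finite-dimensional space of elements of `W` spanning the image modulo `A`
  let B : Submodule k W := (A.comap W.subtype).map (f.restrict hfW)
  obtain ⟨q, hq⟩ := Submodule.exists_isCompl ((A.comap W.subtype ⊓ B).submoduleOf B)
  let E' : Submodule k W := q.map B.subtype
  have hE'B : E' ≤ B := by rintro _ ⟨x, -, rfl⟩; exact x.2
  -- `E'` embeds into `(A ⊔ E) / A`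
  let r : E' →ₗ[k] (V ⧸ A) := A.mkQ ∘ₗ W.subtype ∘ₗ E'.subtype
  have hker : LinearMap.ker r = ⊥ := by
    rw [eq_bot_iff]
    rintro ⟨y, hy⟩ hy0
    obtain ⟨x, hx, rfl⟩ := hy
    have h1 : ((x : W) : V) ∈ A := by
      have : A.mkQ ((x : W) : V) = 0 := hy0
      simpa using this
    have h2 : x ∈ (A.comap W.subtype ⊓ B).submoduleOf B ⊓ q := ⟨⟨h1, x.2⟩, hx⟩
    rw [hq.inf_eq_bot, Submodule.mem_bot] at h2
    subst h2
    rfl
  have hrange : LinearMap.range r ≤ E.map A.mkQ := by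
    rintro _ ⟨⟨y, hy⟩, rfl⟩
    obtain ⟨x, hx, hxy⟩ := hE'B hy
    have h1 : ((y : W) : V) ∈ A ⊔ E := by
      rw [← hxy]
      exact hle ⟨x, hx, rfl⟩
    obtain ⟨a, ha, e, he, hae⟩ := Submodule.mem_sup.1 h1
    refine ⟨e, he, ?_⟩
    change A.mkQ e = A.mkQ (y : V)
    rw [← hae, map_add, (show A.mkQ a = 0 from (Submodule.Quotient.mk_eq_zero A).2 ha), zero_add]
  have hfinr : FiniteDimensional k (LinearMap.range r) := Submodule.finiteDimensional_of_le hrange
  have hfin : FiniteDimensional k E' := by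
    have := LinearEquiv.ofInjective r (LinearMap.ker_eq_bot.1 hker)
    exact Module.Finite.equiv this.symm
  refine ⟨E', hfin, fun x hx => ?_⟩
  have h1 : (⟨x, hx⟩ : B) ∈ (A.comap W.subtype ⊓ B).submoduleOf B ⊔ q := by
    rw [hq.sup_eq_top]; trivial
  obtain ⟨a, ha, c, hc, hac⟩ := Submodule.mem_sup.1 h1
  rw [Submodule.mem_sup]
  exact ⟨a, ha.1, c, ⟨c, hc, rfl⟩, congrArg Subtype.val hac⟩

/-- If `W` is stable and `A + W` has finite codimension, the residue can be computed on `W`. -/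
theorem tres_cover {A : Submodule k V} (W : Submodule k V) (hcov : Prec ⊤ (A ⊔ W))
    {f g : V →ₗ[k] V} (hf : Prec (A.map f) A) (hg : Prec (A.map g) A) (hfg : f ∘ₗ g = g ∘ₗ f)
    (hfW : ∀ x ∈ W, f x ∈ W) (hgW : ∀ x ∈ W, g x ∈ W) :
    tres A f g = tres (A.comap W.subtype) (f.restrict hfW) (g.restrict hgW) := by
  obtain ⟨P, S, hP1, hP2, hPW, hS, hSW, hPS⟩ := exists_cover_proj A W hcov
  have hP := IsPar.of_proj hP1 hP2
  let PW : W →ₗ[k] W := P.restrict hPW
  have hPW' : IsPar (A.comap W.subtype) PW :=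
    IsPar.of_proj (fun x => hP1 x) (fun x hx => Subtype.ext (hP2 x hx))
  have hfgW : f.restrict hfW ∘ₗ g.restrict hgW = g.restrict hgW ∘ₗ f.restrict hfW := by
    ext x
    exact LinearMap.congr_fun hfg x
  rw [tres_eq hP hf hg hfg, tres_eq hPW' (prec_comap hf hfW) (prec_comap hg hgW) hfgW]
  -- split off the finite rank part
  let T₂ : V →ₗ[k] V := (g ∘ₗ S) ∘ₗ f - S ∘ₗ (g ∘ₗ f)
  let T₁ : V →ₗ[k] V := op P f g - T₂
  have hT₂ : FR T₂ := ((hS.comp_right g).comp_left f).sub (hS.comp_left _)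
  have h2 : ptr T₂ = 0 := by
    rw [ptr_eq_ftr hT₂, ftr_sub ((hS.comp_right g).comp_left f) (hS.comp_left _),
      ftr_comm' f (hS.comp_right g), ftr_comm' (g ∘ₗ f) hS, ← LinearMap.comp_assoc, hfg, sub_self]
  have hE1 : E0 A T₁ := (hP.E0_op hf hg).sub (E0.of_FR hT₂)
  have hT₁W : ∀ x, T₁ x ∈ W := by
    intro x
    have e1 : T₁ x = g (f x - P (f x) - S (f x)) - (g (f x) - P (g (f x)) - S (g (f x))) := by
      change (P (g (f x)) - g (P (f x))) - (g (S (f x)) - S (g (f x))) = _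
      rw [map_sub, map_sub]
      abel
    rw [e1]
    exact W.sub_mem (hgW _ (hPS _)) (hPS _)
  have h3 : ptr (op P f g) = ptr T₁ := by
    have : op P f g = T₁ + T₂ := by simp [T₁]
    rw [this, ptr_add hE1 (E0.of_FR hT₂), h2, add_zero]
  rw [h3, ptr_restrict hE1 W hT₁W]
  congr 1
  ext x
  change (P (g (f x)) - g (P (f x))) - (g (S (f x)) - S (g (f x))) = P (g (f x)) - g (P (f x))
  rw [hSW _ (hfW _ x.2), hSW _ (hgW _ (hfW _ x.2)), map_zero, sub_zero, sub_zero]

end K667.TateRes
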